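import Groth.Agent.ExcContr.Generators
import Groth.Agent.PointBlow.Step
import Groth.Agent.Lib.BaseDescent
import Groth.Agent.H26.InterDiv

/-!
# Localizing a contraction at the image of the exceptional line
-/

set_option autoImplicit false
set_option linter.style.haveILetI false
set_option linter.unusedSectionVars false
set_option backward.isDefEq.respectTransparency false
set_option backward.isDefEq.respectTransparency.types false
set_option maxHeartbeats 1000000

universe u

open CategoryTheory CategoryTheory.Limits AlgebraicGeometry TopologicalSpace IsLocalRing Opposite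
open Groth.Agent.H23 Groth.Agent.H23.StalkIdeal

noncomputable section

namespace Groth.Agent.ExcContr

/-- Effective Cartier ideals pull back along morphisms which are isomorphisms on stalks. -/
theorem isEffCartier_comap_of_isIso {W X : Scheme.{u}} (f : W ⟶ X) [∀ w, IsIso (f.stalkMap w)]
    {I : X.IdealSheafData} (hI : BlowUp.IsEffCartierIdeal I) : BlowUp.IsEffCartierIdeal (I.comap f) := by
  intro w
  obtain ⟨U, hwU, g, hg, hU⟩ := hI (f w)
  obtain ⟨V, hV, hwV, hVU⟩ := exists_isAffineOpen_mem_and_subset (show w ∈ f ⁻¹ᵁ U.1 from hwU)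
  have hle : V ≤ f ⁻¹ᵁ U.1 := hVU
  refine ⟨⟨V, hV⟩, hwV, f.appLE U.1 V hle g, mem_nonZeroDivisors_iff_right.2 fun c hc => ?_, ?_⟩
  · refine TopCat.Presheaf.section_ext W.sheaf _ _ _ fun z hz => ?_
    have h0 : W.presheaf.germ V z hz c * W.presheaf.germ V z hz (f.appLE U.1 V hle g) = 0 := by
      rw [← map_mul, hc, map_zero]
    let e := (asIso (f.stalkMap z)).commRingCatIsoToRingEquiv
    have h1 : W.presheaf.germ V z hz (f.appLE U.1 V hle g) = e (X.presheaf.germ U.1 (f z) (hle hz) g) := by
      show _ = f.stalkMap z _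
      erw [Scheme.Hom.germ_stalkMap_apply]
      rw [Scheme.Hom.appLE]
      exact W.presheaf.germ_res_apply (homOfLE hle) z hz _
    rw [h1] at h0
    have h2 := congrArg e.symm h0
    rw [map_mul, map_zero, e.symm_apply_apply] at h2
    show W.presheaf.germ V z hz c = W.presheaf.germ V z hz 0
    rw [map_zero, ← e.apply_symm_apply (W.presheaf.germ V z hz c),
      mem_nonZeroDivisors_iff_right.1 (CDivEq.germ_mem_nonZeroDivisors U (hle hz) hg) _ h2, map_zero]
  · rw [ModPairLib.ideal_comap I f U ⟨V, hV⟩ hle, hU, Ideal.map_span, Set.image_singleton]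

variable {X Y : Scheme.{u}} (b : X ⟶ Y) (y : Y)

/-- Global functions over the local scheme. -/
theorem bijective_gl [QuasiCompact b] [QuasiSeparated b] (happ : ∀ U : Y.Opens, IsIso (b.app U)) :
    Function.Bijective (LineFibre.gl (pullback.snd b (Y.fromSpecStalk y))) := by
  obtain ⟨U, hU, hyU, -⟩ := exists_isAffineOpen_mem_and_subset (x := y) (U := ⊤) trivial
  let R := Γ(Y, U)
  letI : Algebra R (Y.presheaf.stalk y) := TopCat.Presheaf.algebra_section_stalk Y.presheaf (⟨y, hyU⟩ : U)
  haveI := hU.isLocalization_stalk ⟨y, hyU⟩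
  haveI : Module.Flat R (Y.presheaf.stalk y) :=
    IsLocalization.flat _ (hU.primeIdealOf ⟨y, hyU⟩).asIdeal.primeCompl
  let pA : ((b ⁻¹ᵁ U : X.Opens) : Scheme.{u}) ⟶ Spec R := b ∣_ U ≫ hU.isoSpec.hom
  haveI : CompactSpace ((b ⁻¹ᵁ U : X.Opens) : Scheme.{u}) := QuasiCompact.compactSpace_of_compactSpace pA
  haveI : QuasiSeparatedSpace ((b ⁻¹ᵁ U : X.Opens) : Scheme.{u}) := quasiSeparatedSpace_of_quasiSeparated pA
  have hR : Function.Bijective (Coh.toGlobal pA) := by
    haveI := happ ((U : Y.Opens).ι ''ᵁ ⊤)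
    haveI : IsIso (b ∣_ U).appTop := by
      rw [Scheme.Hom.appTop, morphismRestrict_app]
      infer_instance
    haveI : IsIso pA.appTop := by
      show IsIso (b ∣_ U ≫ hU.isoSpec.hom).appTop
      rw [Scheme.Hom.comp_appTop]
      infer_instance
    show Function.Bijective ((pA.appTop).hom.comp (Scheme.ΓSpecIso _).inv.hom)
    exact (ConcreteCategory.bijective_of_isIso pA.appTop).comp
      (ConcreteCategory.bijective_of_isIso (Scheme.ΓSpecIso (CommRingCat.of R)).inv)
  have hmap : Spec.map (CommRingCat.ofHom (algebraMap R (Y.presheaf.stalk y))) ≫ hU.fromSpec = Y.fromSpecStalk y :=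
    hU.fromSpecStalk_eq_fromSpecStalk hyU
  have hQ : IsPullback (b ⁻¹ᵁ U).ι pA b hU.fromSpec :=
    (isPullback_morphismRestrict b U).flip.of_iso (Iso.refl _) (Iso.refl _) hU.isoSpec (Iso.refl _) (by simp) (by simp [pA])
      (by simp) (by simp [hU.isoSpec_hom_fromSpec])
  let P := pullback.fst b (Y.fromSpecStalk y)
  let S := pullback.snd b (Y.fromSpecStalk y)
  let φ : pullback b (Y.fromSpecStalk y) ⟶ ((b ⁻¹ᵁ U : X.Opens) : Scheme.{u}) :=
    hQ.lift P (S ≫ Spec.map (CommRingCat.ofHom (algebraMap R (Y.presheaf.stalk y))))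
      (by rw [Category.assoc, hmap]; exact pullback.condition)
  have hsq : IsPullback φ S pA (Spec.map (CommRingCat.ofHom (algebraMap R (Y.presheaf.stalk y)))) := by
    refine IsPullback.of_right ?_ (hQ.lift_snd _ _ _) hQ
    rw [hmap, hQ.lift_fst]
    exact IsPullback.of_hasPullback b (Y.fromSpecStalk y)
  exact BaseDescent.bijective_toGlobal hsq hR

variable [IsLocallyNoetherian Y] [IsProper b] {k : Type u} [Field k] (u : CohB1.ProjSpace 1 k ⟶ X) [IsClosedImmersion u]
  (hy : IsClosed ({y} : Set Y)) (heff : BlowUp.IsEffCartierIdeal u.ker)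
  (φ : (Scheme.Modules.pullback u).obj (ClSub.idealMod u.ker) ≅ Twist.twistProjSpace 1 k 1)
  (hfib : b ⁻¹' {y} = Set.range u)

theorem isIso_stalkMap_fst (z : (pullback b (Y.fromSpecStalk y) : Scheme.{u})) :
    IsIso ((pullback.fst b (Y.fromSpecStalk y)).stalkMap z) := by
  haveI : Flat (Y.fromSpecStalk y) := H23.RatExtend.flat_fromSpecStalk Y y
  exact H23.FFDescent.isIso_stalkMap_of_flat_of_isPreimmersion (pullback.fst b (Y.fromSpecStalk y)) z

theorem map_fst_eq_iff (z : (pullback b (Y.fromSpecStalk y) : Scheme.{u})) :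
    b (pullback.fst b (Y.fromSpecStalk y) z) = y ↔
      pullback.snd b (Y.fromSpecStalk y) z = closedPoint (Y.presheaf.stalk y) := by
  rw [← Scheme.Hom.comp_apply, pullback.condition, Scheme.Hom.comp_apply]
  refine ⟨fun h => (Y.fromSpecStalk y).isEmbedding.injective (h.trans Scheme.fromSpecStalk_closedPoint.symm),
    fun h => by rw [h, Scheme.fromSpecStalk_closedPoint]⟩

include hy heff φ hfib in
/-- The line over the local scheme. -/
theorem exists_lineFibre :
    ∃ (v : CohB1.ProjSpace 1 k ⟶ pullback b (Y.fromSpecStalk y)) (_ : IsClosedImmersion v),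
      v ≫ pullback.fst b (Y.fromSpecStalk y) = u ∧
      v.ker = u.ker.comap (pullback.fst b (Y.fromSpecStalk y)) ∧
      LineFibre (pullback.snd b (Y.fromSpecStalk y)) v := by
  haveI : IsIntegral (CohB1.ProjSpace 1 k) := H23.PnChart.isIntegral_projSpace 1 k
  let P := pullback.fst b (Y.fromSpecStalk y)
  haveI : IsClosedImmersion (Y.fromSpecResidueField y) :=
    IsClosedImmersion.of_isPreimmersion _ (by rw [Scheme.range_fromSpecResidueField]; exact hy)
  have hbu : ∀ p, b (u p) = y := fun p => (hfib.ge ⟨p, rfl⟩ : u p ∈ b ⁻¹' {y})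
  obtain ⟨g0, hg0⟩ := H23.RedSub.exists_lift_closed (u ≫ b) (Y.fromSpecResidueField y) (by
    rintro _ ⟨p, rfl⟩
    rw [Scheme.range_fromSpecResidueField]
    exact hbu p)
  have hcond : u ≫ b = (g0 ≫ Spec.map (Y.residue y)) ≫ Y.fromSpecStalk y := by
    rw [← hg0, Category.assoc]
    rfl
  let v := pullback.lift u (g0 ≫ Spec.map (Y.residue y)) hcond
  have hv : v ≫ P = u := pullback.lift_fst _ _ _
  have hvr : ∀ z, z ∈ Set.range v ↔ P z ∈ Set.range u := fun z => by
    constructor
    · rintro ⟨p, rfl⟩; exact ⟨p, by rw [← Scheme.Hom.comp_apply, hv]⟩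
    · rintro ⟨p, hp⟩
      exact ⟨p, P.isEmbedding.injective (by rw [← Scheme.Hom.comp_apply, hv]; exact hp)⟩
  haveI : IsPreimmersion v := by
    haveI : IsPreimmersion (v ≫ P) := by rw [hv]; infer_instance
    exact IsPreimmersion.of_comp v P
  haveI : IsClosedImmersion v := IsClosedImmersion.of_isPreimmersion v (by
    rw [show Set.range v = P ⁻¹' Set.range u from Set.ext hvr]
    exact u.isClosedEmbedding.isClosed_range.preimage P.continuous)
  have hker : v.ker = u.ker.comap P := ext_sI fun z => by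
    haveI := isIso_stalkMap_fst b y z
    let e := (asIso (P.stalkMap z)).commRingCatIsoToRingEquiv
    rw [sI_comap]
    by_cases hz : z ∈ Set.range v
    · obtain ⟨p, rfl⟩ := hz
      have key : ∀ (w : CohB1.ProjSpace 1 k ⟶ X) [IsClosedImmersion w], v ≫ P = w →
          sI v.ker (v p) = (sI w.ker (P (v p))).map (P.stalkMap (v p)).hom := by
        rintro w _ rfl
        show _ = (sI (v ≫ P).ker ((v ≫ P) p)).map _
        rw [sI_ker (v ≫ P) p, sI_ker v p, Scheme.Hom.stalkMap_comp, CommRingCat.hom_comp, ← RingHom.comap_ker]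
        exact (Ideal.map_comap_of_surjective _ e.surjective _).symm
      exact key u hv
    · rw [sI_ker_of_notMem v hz, sI_ker_of_notMem u (fun h => hz ((hvr z).2 h)), Ideal.map_top]
  have heff' : BlowUp.IsEffCartierIdeal (u.ker.comap P) :=
    haveI : ∀ z, IsIso (P.stalkMap z) := isIso_stalkMap_fst b y
    isEffCartier_comap_of_isIso P heff
  refine ⟨v, inferInstance, hv, hker, ⟨hker ▸ heff', ⟨?_⟩, ?_⟩⟩
  · exact (Scheme.Modules.pullback v).mapIso
      (eqToIso (congrArg ClSub.idealMod hker) ≪≫ (H26.InterDiv.nonempty_pullback_idealMod P _ heff heff').some.symm) ≪≫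
      (Scheme.Modules.pullbackComp v P).app _ ≪≫ (Scheme.Modules.pullbackCongr hv).app _ ≪≫ φ
  · ext z
    rw [hvr, ← hfib]
    exact (map_fst_eq_iff b y z).symm

end Groth.Agent.ExcContr
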