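import Groth.Agent.ExcContr.Stein
import Groth.Agent.FibrePP.NearExc
import Groth.Agent.AmpleX.Basis
import Groth.Agent.H26.GGContract.Main
import Groth.Agent.S1697

/-!
# Contracting an exceptional curve on a scheme with an ample module
-/

set_option autoImplicit false
set_option linter.style.haveILetI false
set_option linter.unusedSectionVars false
set_option backward.isDefEq.respectTransparency false
set_option backward.isDefEq.respectTransparency.types false
set_option maxHeartbeats 1000000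

universe u

open CategoryTheory CategoryTheory.Limits AlgebraicGeometry TopologicalSpace IsLocalRing Opposite
open Groth.Agent.H23 Groth.Agent.H23.TrivBasic
open scoped Groth.Agent.H23.PicMul

noncomputable section

namespace Groth.Agent.ExcContr

theorem locus_one {X : Scheme.{u}} {L : X.Modules} (S : Coh.structureModule X ⟶ L) :
    locus (InvX.one S) = CohB1.genLocus L S := by
  refine le_antisymm (fun x hx => ?_) fun x hx => ?_
  · obtain ⟨U, hxU, hU⟩ := mem_locus_iff.1 hx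
    exact InvX.le_genLocus S hU hxU
  · obtain ⟨U, hxU, hU⟩ := InvX.mem_genLocus hx
    exact mem_locus_iff.2 ⟨U, hxU, hU⟩

/-- An ample module on the line has positive degree. -/
theorem twist_pos (k : Type u) [Field k] {d : ℤ} (h : CohB1.IsAmple (Twist.twistProjSpace 1 k d)) : 0 < d := by
  haveI : IsIntegral (CohB1.ProjSpace 1 k) := H23.PnChart.isIntegral_projSpace 1 k
  haveI : IsProper (CohB1.ProjSpace 1 k ↘ Spec (CommRingCat.of k)) := PnCoh.Chow.isProper_toSpec 1 k
  obtain ⟨p⟩ : Nonempty (CohB1.ProjSpace 1 k) := inferInstance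
  by_contra hd
  rcases (not_lt.1 hd).lt_or_eq with hlt | rfl
  · obtain ⟨n, s, hps, -⟩ := h.2.2 p
    obtain ⟨e⟩ : Nonempty (CohB1.tensorPow (Twist.twistProjSpace 1 k d) (n + 1) ≅
        Twist.twistProjSpace 1 k (d * ((n + 1 : ℕ) : ℤ))) :=
      PicMul.cl_eq_iff.1 ((PicMul.cl_tensorPow _ _).trans (ExcTwist.tw_pow k d (n + 1)))
    haveI : Subsingleton (Coh.HH (CohB1.ProjSpace 1 k) (CohB1.tensorPow (Twist.twistProjSpace 1 k d) (n + 1)) 0) :=
      QCoh.subsingleton_HH_of_iso e.symm 0 (S0844.result k 1 _ 0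
        (fun h' => by
          have h1 : d * ((n + 1 : ℕ) : ℤ) < 0 := mul_neg_of_neg_of_pos hlt (by omega)
          omega) (by omega))
    have hsub := (LerayCorner.subsingleton_HH_zero_iff _).1 this
    obtain ⟨U, hpU, hf⟩ := InvX.mem_genLocus hps
    have h0 : InvX.one s = 0 := @Subsingleton.elim _ hsub _ _
    rw [h0, map_zero] at hf
    haveI : Nontrivial Γ(CohB1.ProjSpace 1 k, U) := by
      haveI : Nonempty U := ⟨⟨p, hpU⟩⟩
      infer_instance
    exact zero_ne_one (hf.coord_unique le_rfl (by rw [zero_smul, map_zero, smul_zero]) : (0 : Γ(CohB1.ProjSpace 1 k, U)) = 1)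
  · have h1 := CurveAmple.deg_pos_of_ample (k := k) (X := CohB1.ProjSpace 1 k)
      (by rw [S10829.result k 1]; rfl) h
    obtain ⟨e⟩ := PicMul.cl_eq_iff.1 ((ExcTwist.tw_zero k).trans PicMul.one_def)
    rw [CurveRR.deg_congr _ e] at h1
    simp [Curv2.deg] at h1

variable {X : Scheme.{u}}

/-- A tensor inverse of the ideal has a section generating off the divisor. -/
theorem exists_canonical {E : Scheme.{u}} (ι : E ⟶ X) [IsClosedImmersion ι] {M : X.Modules} (hM : PicF.IsInvertible M)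
    (hinv : ClSub.IsInverseOf M (ClSub.idealMod ι.ker)) :
    ∃ σ : Coh.structureModule X ⟶ M, ∀ V : X.Opens, (∀ a, ι a ∉ V) → V ≤ CohB1.genLocus M σ := by
  obtain ⟨e⟩ := hinv
  obtain ⟨f, N, g, w, -, hS⟩ := H26.ArtinTriv.exists_seq ι hM e.symm
  refine ⟨f, fun V hV => InvX.le_genLocus f fun W hW => ?_⟩
  have hfun : (fun r : Γ(X, W) => r • AModX.res M hW (AModX.res M (le_top : V ≤ ⊤) (InvX.one f))) =
      (f.app W : Γ(X, W) → Γ(M, W)) := funext fun r => by
    rw [AModX.res_res]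
    exact (InvX.app_eq_smul f r).symm
  rw [hfun]
  haveI : Mono f := hS.mono_f
  refine ⟨ZClosLib.app_injective_of_mono f W, fun m => ?_⟩
  obtain ⟨-, hex⟩ := Lib.KoszulSheaf.sections_exact hS W
  refine hex m ?_
  have hbot : ι ⁻¹ᵁ W = ⊥ := le_bot_iff.1 fun a ha => hV a (hW ha)
  have hz : ∀ z : Γ(N, ι ⁻¹ᵁ W), z = 0 := fun z => AModX.eq_of_locally z 0 fun a ha => absurd (hbot.le ha) id
  exact hz _

/-- Preimages of small neighbourhoods lie in a given open containing the fibre. -/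
theorem exists_preimage_le {Y : Scheme.{u}} (b : X ⟶ Y) [UniversallyClosed b] {w : Y} {U : X.Opens}
    (h : ∀ x, b x = w → x ∈ U) : ∃ V : Y.Opens, w ∈ V ∧ b ⁻¹ᵁ V ≤ U := by
  refine ⟨⟨(b '' (U : Set X)ᶜ)ᶜ, (b.isClosedMap _ U.2.isClosed_compl).isOpen_compl⟩, ?_, fun x hx => ?_⟩
  · rintro ⟨x, hx, hxw⟩
    exact hx (h x hxw)
  · by_contra hxU
    exact hx ⟨x, hxU, rfl⟩

/-- The morphism given by sections, contracting connected proper subschemes where the module is trivial. -/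
theorem exists_map_of_sections {R : Type u} [CommRing R] (q : X ⟶ Spec (CommRingCat.of R)) {L : X.Modules}
    (hL : PicF.IsInvertible L) {n : ℕ} (s : Fin (n + 1) → Γ(L, ⊤)) (hs : ∀ x : X, ∃ i, x ∈ locus (s i)) :
    ∃ r : X ⟶ CohB1.ProjSpace n R, r ≫ CohB1.ProjSpace.toSpec n R = q ∧
      Nonempty ((Scheme.Modules.pullback r).obj (Twist.twistProjSpace n R 1) ≅ L) ∧
      (∀ i, r ⁻¹ᵁ Proj.basicOpen (CohB1.polyGrading n R) (MvPolynomial.X i) = locus (s i)) ∧
      ∀ (Z : Scheme.{u}) [IsIntegral Z] (K : Type u) [Field K] (g : Z ⟶ Spec (CommRingCat.of K))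
        [UniversallyClosed g] (v : Z ⟶ X),
        Nonempty ((Scheme.Modules.pullback v).obj L ≅ Coh.structureModule Z) → ∀ z z', r (v z) = r (v z') := by
  obtain ⟨r, hr, τ, hτ⟩ := S3572.result n q L hL s
    (ProjUPX.generatedBy_of_frames s fun x => by
      obtain ⟨i, hi⟩ := hs x
      obtain ⟨U, hxU, hU⟩ := mem_locus_iff.1 hi
      exact ⟨i, U, hxU, hU⟩)
  have hpre : ∀ i, r ⁻¹ᵁ Proj.basicOpen (CohB1.polyGrading n R) (MvPolynomial.X i) = locus (s i) := fun i =>
    AmpleEmbed.preimage_chart r τ i (hτ i)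
  refine ⟨r, hr, ⟨τ⟩, hpre, fun Z _ K _ g _ v htriv z z' => ?_⟩
  obtain ⟨i, hi⟩ := hs (v z)
  let σ : Γ((Scheme.Modules.pullback v).obj L, ⊤) := InvX.pullElt v (s i)
  have hzσ : z ∈ locus σ := by
    rw [locus_pullElt hL v (s i)]
    exact hi
  have hσ0 : σ ≠ 0 := fun h0 => by
    obtain ⟨U, hU, hf⟩ := mem_locus_iff.1 hzσ
    rw [h0, map_zero] at hf
    haveI : Nontrivial Γ(Z, U) := by
      haveI : Nonempty U := ⟨⟨z, hU⟩⟩
      infer_instance
    exact zero_ne_one (hf.coord_unique le_rfl (by rw [zero_smul, map_zero, smul_zero]) : (0 : Γ(Z, U)) = 1)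
  have hall : ∀ w, r (v w) ∈ Proj.basicOpen (CohB1.polyGrading n R) (MvPolynomial.X i) := fun w => by
    have hw : w ∈ locus σ := by
      rw [locus_eq_top_iff.2 (isFrame_of_ne_zero htriv (isField_of_universallyClosed K g) hσ0)]
      trivial
    rw [locus_pullElt hL v (s i), ← hpre i] at hw
    exact hw
  let B := Proj.basicOpen (CohB1.polyGrading n R) (MvPolynomial.X i : MvPolynomial (Fin (n + 1)) R)
  haveI : IsAffine (B : Scheme.{u}) :=
    Proj.isAffineOpen_basicOpen (CohB1.polyGrading n R) _ (ProjPt.X_mem i) Nat.one_pos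
  have hsub : Set.range (v ≫ r) ⊆ Set.range B.ι := by
    rintro _ ⟨w, rfl⟩
    rw [Scheme.Opens.range_ι, Scheme.Hom.comp_apply]
    exact hall w
  let h := IsOpenImmersion.lift B.ι (v ≫ r) hsub
  have hconst : h z = h z' := by
    haveI : Subsingleton (Spec Γ(Z, ⊤)) := by
      letI : Field Γ(Z, ⊤) := (isField_of_universallyClosed K g).toField
      exact inferInstanceAs (Subsingleton (PrimeSpectrum Γ(Z, ⊤)))
    have e := Scheme.toSpecΓ_naturality h
    have e' : h = Z.toSpecΓ ≫ Spec.map h.appTop ≫ (B : Scheme.{u}).isoSpec.inv := by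
      rw [← Category.assoc, ← e, Category.assoc]
      exact (Category.comp_id h).symm.trans (congrArg (h ≫ ·) (B : Scheme.{u}).isoSpec.hom_inv_id.symm)
    rw [e', Scheme.Hom.comp_apply, Scheme.Hom.comp_apply]
    exact congrArg _ (congrArg _ (Subsingleton.elim (Z.toSpecΓ z) (Z.toSpecΓ z')))
  have e1 := congrArg B.ι hconst
  rw [← Scheme.Hom.comp_apply, ← Scheme.Hom.comp_apply, IsOpenImmersion.lift_fac] at e1
  exact e1

theorem exists_ample_contraction (R : Type u) [CommRing R] [IsNoetherianRing R] {E X : Scheme.{u}}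
    (f : X ⟶ Spec (CommRingCat.of R)) [IsProper f] (L : X.Modules) (hL : CohB1.IsAmple L)
    (ι : E ⟶ X) [IsClosedImmersion ι] (hE : Models.IsExcCurve ι)
    (M : X.Modules) (hinv : ClSub.IsInverseOf M (ClSub.idealMod ι.ker)) :
    ∃ (X' : Scheme.{u}) (b : X ⟶ X') (g : X' ⟶ Spec (CommRingCat.of R)), Models.IsContractionOf ι b ∧ b ≫ g = f ∧
      IsProper g ∧ ∃ (n : ℕ) (L' : X'.Modules), CohB1.IsAmple L' ∧
        Nonempty ((Scheme.Modules.pullback b).obj L' ≅ CohB1.tensorMod L (CohB1.tensorPow M n)) := by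
  classical
  obtain ⟨heff, k, hk, e, ⟨φ⟩⟩ := hE
  haveI : IsIntegral (CohB1.ProjSpace 1 k) := H23.PnChart.isIntegral_projSpace 1 k
  haveI : IsProper (CohB1.ProjSpace 1 k ↘ Spec (CommRingCat.of k)) := PnCoh.Chow.isProper_toSpec 1 k
  haveI : IsLocallyNoetherian X := LocallyOfFiniteType.isLocallyNoetherian f
  haveI : CompactSpace X := QuasiCompact.compactSpace_of_compactSpace f
  haveI : IsNoetherian X := {}
  haveI : X.IsSeparated := ⟨by rw [← terminal.comp_from f]; infer_instance⟩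
  let u := e.hom ≫ ι
  have hker : u.ker = ι.ker := ker_iso_comp e ι
  have hI : PicF.IsInvertible (ClSub.idealMod ι.ker) := H26.IdealCl.isInvertible_idealMod heff
  have hM : PicF.IsInvertible M := H26.ArInter.isInvertible_of_inverse hI hinv
  have hMI : PicF.cl M * PicF.cl (ClSub.idealMod ι.ker) = 1 := by
    rw [← PicMul.cl_tensor, PicMul.one_def]; exact PicMul.cl_eq_iff.2 hinv
  have hpI : PicMul.pullHom u (PicF.cl (ClSub.idealMod ι.ker)) = ExcTwist.tw k 1 := PicMul.cl_eq_iff.2 ⟨φ⟩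
  have hpM : PicMul.pullHom u (PicF.cl M) = ExcTwist.tw k (-1) := by
    have h := congrArg (PicMul.pullHom u) hMI
    rw [map_mul, map_one, hpI] at h
    calc PicMul.pullHom u (PicF.cl M) = PicMul.pullHom u (PicF.cl M) * (ExcTwist.tw k 1 * ExcTwist.tw k (-1)) := by
          rw [ExcTwist.tw_add, add_neg_cancel, ExcTwist.tw_zero, mul_one]
      _ = _ := by rw [← mul_assoc, h, one_mul]
  -- the degree
  haveI : CompactSpace (CohB1.ProjSpace 1 k) :=
    QuasiCompact.compactSpace_of_compactSpace (CohB1.ProjSpace 1 k ↘ Spec (CommRingCat.of k))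
  obtain ⟨d', ⟨ψ⟩⟩ := S1697.result k 1 _ (PicClLib.isInvertible_pullback u hL.1)
  have hd' : 0 < d' := twist_pos k (AmpleX.isAmple_of_iso ψ
    (AmpleVan.isAmple_pullback_of_isEmbedding u u.isClosedEmbedding.isEmbedding hL))
  obtain ⟨d, rfl⟩ := Int.eq_ofNat_of_zero_le hd'.le
  have hd : 0 < d := by exact_mod_cast hd'
  have hpL : PicMul.pullHom u (PicF.cl L) = ExcTwist.tw k d := PicMul.cl_eq_iff.2 ⟨ψ⟩
  -- loci off the curve
  let V : X.Opens := ⟨(Set.range u)ᶜ, u.isClosedEmbedding.isClosed_range.isOpen_compl⟩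
  have hVι : ∀ a, ι a ∉ V := fun a h => h ⟨e.inv a, by
    show ι (e.hom (e.inv a)) = ι a
    rw [← Scheme.Hom.comp_apply e.inv e.hom, Iso.inv_hom_id]
    rfl⟩
  choose m hm t ht htV htA using fun x : V => AmpleX.exists_genLocus_le hL (U := V) x.2
  obtain ⟨F, hF⟩ := (NoetherianSpace.isCompact (V : Set X)).elim_finite_subcover
    (fun x : V => (CohB1.genLocus _ (t x) : Set X)) (fun x => (CohB1.genLocus _ (t x)).2)
    (fun x hx => Set.mem_iUnion.2 ⟨⟨x, hx⟩, ht ⟨x, hx⟩⟩)
  obtain ⟨n₁, hn₁⟩ := (S0051.result R X f L hL.1).1 hL (Coh.structureModule X) QCoh.isCoh_structureModule'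
  let N := (∏ x ∈ F, m x) * (n₁ + 1)
  have hN : 0 < N := Nat.mul_pos (Finset.prod_pos fun x _ => hm x) (Nat.succ_pos _)
  have hdvd : ∀ x ∈ F, ∃ j, 0 < j ∧ m x * j = N := fun x hx => by
    obtain ⟨j, hj⟩ := (Finset.dvd_prod_of_mem m hx).mul_right (n₁ + 1)
    exact ⟨j, Nat.pos_of_ne_zero fun h0 => hN.ne' (by rw [show N = m x * j from hj, h0, mul_zero]), hj.symm⟩
  let L0 := CohB1.tensorMod L (CohB1.tensorPow M d)
  let LN := CohB1.tensorPow L N
  let M' := CohB1.tensorMod LN (CohB1.tensorPow M (N * d))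
  have hLN : PicF.IsInvertible LN := InvX.isInvertible_tensorPow hL.1 N
  have hL0 : PicF.IsInvertible L0 := InvX.isInvertible_tensorMod hL.1 (InvX.isInvertible_tensorPow hM d)
  have hM' : PicF.IsInvertible M' := InvX.isInvertible_tensorMod hLN (InvX.isInvertible_tensorPow hM _)
  have hclM' : PicF.cl M' = PicF.cl L0 ^ N := by
    rw [PicMul.cl_tensor, PicMul.cl_tensor, PicMul.cl_tensorPow, PicMul.cl_tensorPow, PicMul.cl_tensorPow, mul_pow,
      ← pow_mul, mul_comm d N]
  have htriv0 : PicMul.pullHom u (PicF.cl L0) = 1 := by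
    rw [PicMul.cl_tensor, map_mul, PicMul.cl_tensorPow, map_pow, hpL, hpM, ExcTwist.tw_pow, ExcTwist.tw_add,
      neg_one_mul, add_neg_cancel, ExcTwist.tw_zero]
  have htriv : Triv ((Scheme.Modules.pullback u).obj M') := PicMul.cl_eq_iff.1 (by
    show PicMul.pullHom u (PicF.cl M') = _
    rw [hclM', map_pow, htriv0, one_pow, PicMul.one_def])
  -- the sections off the curve
  obtain ⟨σ, hσ⟩ := exists_canonical ι hM hinv
  have hsec : ∀ x : F, ∃ s : Γ(M', ⊤), locus s = CohB1.genLocus _ (t x.1) := fun x => by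
    obtain ⟨j, hj0, hj⟩ := hdvd x.1 x.2
    obtain ⟨j, rfl⟩ := Nat.exists_eq_add_one_of_ne_zero hj0.ne'
    obtain ⟨ee⟩ : Nonempty (CohB1.tensorPow (CohB1.tensorPow L (m x.1)) (j + 1) ≅ LN) := PicMul.cl_eq_iff.1 (by
      rw [PicMul.cl_tensorPow, PicMul.cl_tensorPow, PicMul.cl_tensorPow, ← pow_mul, hj])
    obtain ⟨a, ha⟩ : ∃ a, N * d = a + 1 := Nat.exists_eq_add_one_of_ne_zero (Nat.mul_pos hN hd).ne'
    let τ : Coh.structureModule X ⟶ CohB1.tensorPow M (N * d) :=
      InvX.powHom σ (a + 1) ≫ eqToHom (by rw [ha])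
    have hτ : CohB1.genLocus _ τ = CohB1.genLocus M σ := by
      refine Eq.trans ?_ (InvX.genLocus_powHom hM σ a)
      exact InvX.genLocus_comp_iso _ (eqToIso (by rw [ha]))
    refine ⟨InvX.one (InvX.mulHom (InvX.powHom (t x.1) (j + 1) ≫ ee.hom) τ), ?_⟩
    rw [locus_one, InvX.genLocus_mulHom hLN (InvX.isInvertible_tensorPow hM _), InvX.genLocus_comp_iso,
      InvX.genLocus_powHom (InvX.isInvertible_tensorPow hL.1 _), hτ]
    exact inf_eq_left.2 ((htV x.1).trans (hσ V hVι))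
  choose sec hsec using hsec
  -- a section generating along the curve
  obtain ⟨a, ha⟩ : ∃ a, N * d = a + 1 := Nat.exists_eq_add_one_of_ne_zero (Nat.mul_pos hN hd).ne'
  have hH1L : Subsingleton (Coh.HH X LN 1) := by
    obtain ⟨ee⟩ : Nonempty (CohB1.tensorMod (Coh.structureModule X) LN ≅ LN) := PicMul.cl_eq_iff.1 (by
      rw [PicMul.cl_tensor, ← PicMul.one_def, one_mul])
    refine QCoh.subsingleton_HH_of_iso ee 1 (hn₁ N ?_ 1 one_pos)
    have h2 : n₁ + 1 ≤ N := Nat.le_mul_of_pos_left _ (Finset.prod_pos fun x _ => hm x)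
    omega
  have hvan : Subsingleton (Coh.HH X (CohB1.tensorMod LN (CohB1.tensorPow M a)) 1) :=
    ExcTwist.main ι ⟨heff, k, hk, e, ⟨φ⟩⟩ M hinv LN hLN k e (N * d) (PicMul.cl_eq_iff.1 (by
      show PicMul.pullHom u (PicF.cl LN) = _
      rw [PicMul.cl_tensorPow, map_pow, hpL, ExcTwist.tw_pow, mul_comm N d, Nat.cast_mul]
      rfl)) hH1L a (by omega)
  obtain ⟨e1⟩ : Nonempty (CohB1.tensorMod LN (CohB1.tensorPow M a) ≅
      CohB1.tensorMod M' (ClSub.idealMod u.ker)) := PicMul.cl_eq_iff.1 (by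
    rw [hker, PicMul.cl_tensor, PicMul.cl_tensor, PicMul.cl_tensor, PicMul.cl_tensorPow, PicMul.cl_tensorPow,
      PicMul.cl_tensorPow, ha, pow_succ, mul_assoc, mul_assoc (PicF.cl M ^ a), hMI, mul_one])
  obtain ⟨S0, hS0⟩ := H26.ArtinTriv.exists_section_generating u hM' e1 hvan htriv
  -- the morphism
  let s : Fin (F.card + 1) → Γ(M', ⊤) := Fin.cons (InvX.one S0) fun i => sec (F.equivFin.symm i)
  have hcover : ∀ x ∈ V, ∃ i : Fin F.card, x ∈ locus (s i.succ) ∧ locus (s i.succ) ≤ V ∧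
      IsAffineOpen (locus (s i.succ)) := fun x hx => by
    obtain ⟨z, hz, hxz⟩ := Set.mem_iUnion₂.1 (hF hx)
    refine ⟨F.equivFin ⟨z, hz⟩, ?_⟩
    simp only [s, Fin.cons_succ, Equiv.symm_apply_apply, hsec]
    exact ⟨hxz, htV z, htA z⟩
  have hs : ∀ x : X, ∃ i, x ∈ locus (s i) := fun x => by
    by_cases hx : x ∈ Set.range u
    · refine ⟨0, ?_⟩
      simp only [s, Fin.cons_zero, locus_one]
      exact hS0 hx
    · obtain ⟨i, hi, -⟩ := hcover x hx
      exact ⟨_, hi⟩
  obtain ⟨r, hr, ⟨τ⟩, hpre, hconst⟩ := exists_map_of_sections f hM' s hs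
  haveI := PnCoh.Chow.isProper_toSpec F.card R
  haveI : IsProper (r ≫ CohB1.ProjSpace.toSpec F.card R) := by rw [hr]; infer_instance
  haveI : IsProper r := IsProper.of_comp r (CohB1.ProjSpace.toSpec F.card R)
  haveI : IsLocallyNoetherian (CohB1.ProjSpace F.card R) :=
    LocallyOfFiniteType.isLocallyNoetherian (CohB1.ProjSpace.toSpec F.card R)
  haveI : CompactSpace (CohB1.ProjSpace F.card R) :=
    QuasiCompact.compactSpace_of_compactSpace (CohB1.ProjSpace.toSpec F.card R)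
  haveI : IsNoetherian (CohB1.ProjSpace F.card R) := {}
  obtain ⟨p0⟩ : Nonempty (CohB1.ProjSpace 1 k) := inferInstance
  have hone := hconst (CohB1.ProjSpace 1 k) k (CohB1.ProjSpace 1 k ↘ Spec (CommRingCat.of k)) u htriv
  have hy : Set.range ((ι ≫ r).base : E → CohB1.ProjSpace F.card R) = {r (u p0)} := by
    refine Set.Subset.antisymm ?_ ?_
    · rintro _ ⟨a, rfl⟩
      show r (ι a) = r (u p0)
      rw [show ι a = u (e.inv a) by
        show ι a = ι (e.hom (e.inv a))
        rw [← Scheme.Hom.comp_apply e.inv e.hom, Iso.inv_hom_id]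
        rfl]
      exact hone _ _
    · rintro _ rfl
      exact ⟨e.hom p0, rfl⟩
  have hqf : LocallyQuasiFinite (Scheme.Opens.ι (X := X) ι.ker.support.compl ≫ r) := by
    have hle : ∀ x : X, x ∈ ι.ker.support.compl → x ∈ V := fun x hx hxu => hx (by
      obtain ⟨p, rfl⟩ := hxu
      show u p ∈ (ι.ker.support : Set X)
      rw [Scheme.Hom.support_ker]
      exact subset_closure ⟨e.hom p, rfl⟩)
    have hch : ∀ i : Fin F.card, IsAffineOpen (locus (s i.succ)) → LocallyQuasiFinite ((locus (s i.succ)).ι ≫ r) := by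
      intro i hAi
      let B := Proj.basicOpen (CohB1.polyGrading F.card R) (MvPolynomial.X i.succ : MvPolynomial (Fin (F.card + 1)) R)
      haveI : IsAffine (B : Scheme.{u}) :=
        Proj.isAffineOpen_basicOpen (CohB1.polyGrading F.card R) _ (ProjPt.X_mem i.succ) Nat.one_pos
      haveI : IsAffine ((r ⁻¹ᵁ B : X.Opens) : Scheme.{u}) := by rw [hpre i.succ]; exact hAi
      haveI : IsProper (r ∣_ B) := IsZariskiLocalAtTarget.restrict (P := @IsProper) ‹_› B
      haveI : IsFinite (r ∣_ B) := IsFinite.iff_isProper_and_isAffineHom.2 ⟨inferInstance, inferInstance⟩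
      have h2 : LocallyQuasiFinite ((r ⁻¹ᵁ B).ι ≫ r) := by rw [← morphismRestrict_ι]; infer_instance
      rw [hpre i.succ] at h2
      exact h2
    let U0 : X.Opens := ι.ker.support.compl
    choose idx hidx1 hidx2 hidx3 using fun x : (U0 : Scheme.{u}) => hcover x.1 (hle x.1 x.2)
    refine (IsZariskiLocalAtSource.iff_of_iSup_eq_top (P := @LocallyQuasiFinite)
      (fun x : (U0 : Scheme.{u}) => U0.ι ⁻¹ᵁ locus (s (idx x).succ))
      (top_le_iff.1 fun x _ => Opens.mem_iSup.2 ⟨x, hidx1 x⟩)).2 fun x => ?_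
    haveI := hch (idx x) (hidx3 x)
    rw [← Category.assoc, ← morphismRestrict_ι, Category.assoc]
    infer_instance
  obtain ⟨X', b, g0, hcontr, hbg, hg0, hunit⟩ := exists_contraction ι ⟨heff, k, hk, e, ⟨φ⟩⟩ r (r (u p0)) hy hqf
  obtain ⟨hX', hb, y', hy', hyr, hreg, hdim, hblow⟩ := hcontr
  haveI := hX'
  haveI := hb
  haveI := hg0
  haveI := hreg
  have h0 : ∀ W : X'.Opens, Function.Bijective (b.app W) := fun W => by
    haveI := hunit
    exact (ConcreteCategory.isIso_iff_bijective ((ClSub.unitToPush b).app W)).1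
      (Scheme.Modules.Hom.isIso_iff_isIso_app.1 inferInstance W)
  have hbu : ∀ a, b (ι a) = y' := fun a => hyr.le ⟨a, rfl⟩
  have hfib : b ⁻¹' {y'} = Set.range ι := by
    refine Set.Subset.antisymm ?_ (by rintro _ ⟨a, rfl⟩; exact hbu a)
    obtain ⟨p, q, hpq, hsp⟩ := Contraction7.exists_specializes_projLine k
    exact Contraction7.fibre_subset b hy' hblow hdim ι.isClosedEmbedding.isClosed_range
      (fun h => hpq (u.isEmbedding.injective h)) (hsp.map u.continuous) ⟨e.hom p, rfl⟩ (hbu _) (hbu _)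
  have htrivE : Nonempty ((Scheme.Modules.pullback ι).obj L0 ≅ Coh.structureModule E) := by
    refine TrivBasic.triv_of_isIso e.hom ((TrivBasic.triv_comp_iff e.hom ι).2 (PicMul.cl_eq_iff.1 ?_))
    exact htriv0.trans PicMul.one_def
  have hframes : ∀ w : X', ∃ (W : X'.Opens) (_ : w ∈ W) (s : Γ(L0, b ⁻¹ᵁ W)), InvX.IsFrame s := by
    intro w
    by_cases hw : w = y'
    · subst hw
      exact FibrePP.exists_frame_near ι ⟨heff, k, hk, e, ⟨φ⟩⟩ b hy' hblow hdim hfib L0 hL0 htrivE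
    · by_cases hne : ∃ x, b x = w
      · obtain ⟨x, rfl⟩ := hne
        obtain ⟨U, hxU, ε, hε⟩ := InvX.exists_frame hL0 x
        obtain ⟨W, hwW, hW⟩ := exists_preimage_le b (U := U) (w := b x) fun z hz =>
          PointBlow.injective_off hy' hblow hw hz.symm ▸ hxU
        exact ⟨W, hwW, AModX.res L0 hW ε, hε.res hW⟩
      · obtain ⟨W, hwW, hW⟩ := exists_preimage_le b (U := ⊥) (w := w) fun z hz => (hne ⟨z, hz⟩).elim
        refine ⟨W, hwW, 0, fun V' hV' => ?_⟩
        have hb' : V' ≤ (⊥ : X.Opens) := hV'.trans hW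
        have h1 : ∀ z : Γ(L0, V'), z = 0 := fun z => AModX.eq_of_locally z 0 fun a ha => absurd (hb' ha) id
        have h2 : ∀ z : Γ(X, V'), z = 0 := fun z => AModX.eq_of_locally (M := Coh.structureModule X) z 0
          fun a ha => absurd (hb' ha) id
        exact ⟨fun z z' _ => (h2 z).trans (h2 z').symm, fun z => ⟨0, (h1 _).trans (h1 z).symm⟩⟩
  obtain ⟨L', hL', ⟨ξ⟩⟩ := FibrePP.exists_descent b h0 hframes
  refine ⟨X', b, g0 ≫ CohB1.ProjSpace.toSpec F.card R, ⟨hX', hb, y', hy', hyr, hreg, hdim, hblow⟩,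
    by rw [← Category.assoc, hbg, hr], inferInstance, d, L', ?_, ⟨ξ⟩⟩
  refine AmpleX.isAmple_of_tensorPow hL' hN ?_
  have hO : CohB1.IsAmple (Twist.twistProjSpace F.card R 1) := by
    let T := Finset.image (fun j : Fin (F.card + 1) => (MvPolynomial.X j : MvPolynomial (Fin (F.card + 1)) R)) Finset.univ
    refine AmpleX.isAmple_twist_one (CohB1.polyGrading F.card R) T (fun f hf => ?_) (top_le_iff.1 fun y _ => ?_)
    · obtain ⟨j, -, rfl⟩ := Finset.mem_image.1 hf
      exact ProjPt.X_mem j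
    · obtain ⟨j, hj⟩ := ProjUPX.cov_X y
      exact Opens.mem_iSup.2 ⟨⟨_, Finset.mem_image.2 ⟨j, Finset.mem_univ _, rfl⟩⟩, hj⟩
  haveI : CompactSpace X' := hX'.toCompactSpace
  have hA := AmpleVan.FiniteSurj.isAmple_pullback_of_isAffineHom g0 hO
  obtain ⟨η⟩ : Nonempty ((Scheme.Modules.pullback g0).obj (Twist.twistProjSpace F.card R 1) ≅ CohB1.tensorPow L' N) := by
    refine FibrePP.nonempty_iso_of_pullback b h0 (PicClLib.isInvertible_pullback _ hO.1)
      (InvX.isInvertible_tensorPow hL' N) (PicMul.cl_eq_iff.1 ?_).some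
    rw [show PicF.cl ((Scheme.Modules.pullback b).obj (CohB1.tensorPow L' N)) =
      PicMul.pullHom b (PicF.cl (CohB1.tensorPow L' N)) from rfl, PicMul.cl_tensorPow, map_pow,
      show PicMul.pullHom b (PicF.cl L') = PicF.cl L0 from PicMul.cl_eq_iff.2 ⟨ξ⟩, ← hclM']
    exact PicMul.cl_eq_iff.2 ⟨(Scheme.Modules.pullbackComp b g0).app _ ≪≫
      (Scheme.Modules.pullbackCongr hbg).app _ ≪≫ τ⟩
  exact AmpleX.isAmple_of_iso η hA

end Groth.Agent.ExcContr
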