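import Groth.Agent.ExcContr.Localize
import Groth.Agent.SurfSeq.Irreducible
import Groth.Agent.Lib.NegVanStalk
import Groth.Agent.S0560
import Groth.Agent.S10829
import Groth.Agent.CurveCohLib.SubBundle
import Groth.Agent.RegLoc6.Serre
import Groth.Agent.BlowUpLib.Glue

/-!
# The contraction of an exceptional line is a blow-up of a regular surface point
-/

set_option autoImplicit false
set_option linter.style.haveILetI false
set_option linter.unusedSectionVars false
set_option backward.isDefEq.respectTransparency false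
set_option backward.isDefEq.respectTransparency.types false
set_option maxHeartbeats 1000000

universe u

open CategoryTheory CategoryTheory.Limits AlgebraicGeometry TopologicalSpace IsLocalRing Opposite
open Groth.Agent.H23 Groth.Agent.H23.StalkIdeal

noncomputable section

namespace Groth.Agent.ExcContr

/-- Global functions and the stalk at the closed point. -/
theorem bijective_germ_closedPoint {A : CommRingCat.{u}} [IsLocalRing A] {q : (Spec A : Scheme.{u})}
    (hq : q = closedPoint A) :
    Function.Bijective (((Spec A).presheaf.germ ⊤ q trivial).hom.comp (Scheme.ΓSpecIso A).inv.hom) := by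
  subst hq
  rw [← ΓSpecIso_hom_stalkClosedPointIso_inv, ← CommRingCat.hom_comp, Iso.inv_hom_id_assoc]
  exact ConcreteCategory.bijective_of_isIso (stalkClosedPointIso A).inv

/-- The ideal of the closed point of a local scheme. -/
theorem centre_maximalIdeal {A : CommRingCat.{u}} [IsLocalRing A] (h : IsClosed ({closedPoint A} : Set (Spec A : Scheme.{u}))) :
    BlowUpLib.centre (maximalIdeal A) =
      Scheme.IdealSheafData.vanishingIdeal (X := Spec A) ⟨({closedPoint A} : Set (Spec A : Scheme.{u})), h⟩ := by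
  refine Scheme.IdealSheafData.ext_of_isAffine ?_
  rw [BlowUpLib.centre_top, Scheme.IdealSheafData.vanishingIdeal_ideal]
  have hV : IsAffineOpen (⊤ : (Spec A).Opens) := isAffineOpen_top _
  have hpre : hV.fromSpec ⁻¹' ({closedPoint A} : Set (Spec A : Scheme.{u})) = {hV.primeIdealOf ⟨closedPoint A, trivial⟩} := by
    ext t
    constructor
    · intro ht
      exact hV.fromSpec.isOpenEmbedding.injective (ht.trans (hV.fromSpec_primeIdealOf ⟨closedPoint A, trivial⟩).symm)
    · rintro rfl
      exact hV.fromSpec_primeIdealOf ⟨closedPoint A, trivial⟩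
  erw [hpre, PrimeSpectrum.vanishingIdeal_singleton, hV.primeIdealOf_eq_map_closedPoint]
  ext c
  have hb := bijective_germ_closedPoint (A := A) (q := closedPoint A) rfl
  refine (Ideal.mem_map_iff_of_surjective (Scheme.ΓSpecIso A).inv.hom
    (ConcreteCategory.bijective_of_isIso (Scheme.ΓSpecIso A).inv).2).trans ?_
  show _ ↔ (Spec A).presheaf.germ ⊤ (closedPoint A) trivial c ∈ maximalIdeal _
  constructor
  · rintro ⟨d, hd, rfl⟩
    refine fun hu => hd ?_
    let E := RingEquiv.ofBijective _ hb
    have h1 : IsUnit (E.symm (E d)) := (show IsUnit (E d) from hu).map E.symm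
    rwa [E.symm_apply_apply] at h1
  · intro hc
    obtain ⟨d, rfl⟩ := (ConcreteCategory.bijective_of_isIso (Scheme.ΓSpecIso A).inv).2 c
    exact ⟨d, fun hu => hc (hu.map (((Spec A).presheaf.germ ⊤ (closedPoint A) trivial).hom.comp
      (Scheme.ΓSpecIso A).inv.hom)), rfl⟩

/-- An effective Cartier ideal is trivial at the generic point. -/
theorem sI_genericPoint {W : Scheme.{u}} [IsIntegral W] {J : W.IdealSheafData} (hJ : BlowUp.IsEffCartierIdeal J) :
    sI J (genericPoint W) = ⊤ := by
  obtain ⟨t, ht, hJt⟩ := exists_gen hJ (genericPoint W)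
  rw [hJt, Ideal.span_singleton_eq_top]
  let F : Type u := W.functionField
  exact isUnit_iff_ne_zero.2 (nonZeroDivisors.ne_zero (M₀ := W.functionField) ht)

/-- A scheme whose points all specialize into an irreducible set with integral stalks is integral. -/
theorem isIntegral_of_specializes {X : Scheme.{u}} (hdom : ∀ x : X, IsDomain (X.presheaf.stalk x)) (η : X)
    (h : ∀ x : X, ∃ p, x ⤳ p ∧ η ⤳ p) : IsIntegral X := by
  haveI : Nonempty X := ⟨η⟩
  haveI : ∀ x : X, _root_.IsReduced (X.presheaf.stalk x) := fun x => by haveI := hdom x; infer_instance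
  haveI := isReduced_of_isReduced_stalk X
  have hgen : ∀ x : X, ∃ ξ : X, ξ ⤳ x ∧ ∀ z, z ⤳ x → ξ ⤳ z := fun x => by
    haveI := hdom x
    let q : Spec (X.presheaf.stalk x) := (⟨⊥, Ideal.isPrime_bot⟩ : PrimeSpectrum (X.presheaf.stalk x))
    refine ⟨X.fromSpecStalk x q, (Scheme.range_fromSpecStalk (X := X) (x := x)).le ⟨q, rfl⟩, fun z hz => ?_⟩
    obtain ⟨r, rfl⟩ : z ∈ Set.range (X.fromSpecStalk x) := by rw [Scheme.range_fromSpecStalk]; exact hz
    exact ((PrimeSpectrum.le_iff_specializes _ _).1 bot_le).map (X.fromSpecStalk x).continuous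
  obtain ⟨ξ, hξη, hξ⟩ := hgen η
  have hall : ∀ x : X, ξ ⤳ x := fun x => by
    obtain ⟨p, hxp, hηp⟩ := h x
    obtain ⟨ξ', hξ'p, hξ'⟩ := hgen p
    exact (hξ ξ' (hξ' η hηp)).trans (hξ' x hxp)
  haveI : IrreducibleSpace X := irreducibleSpace_def X |>.2 (by
    have h1 : closure ({ξ} : Set X) = Set.univ :=
      Set.eq_univ_of_forall fun x => specializes_iff_mem_closure.1 (hall x)
    show IsIrreducible (Set.univ : Set X)
    rw [← h1]
    exact isIrreducible_singleton.closure)
  exact isIntegral_of_irreducibleSpace_of_isReduced X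

theorem regular_spec {A : CommRingCat.{u}} [IsRegularLocalRing A] (p : (Spec A : Scheme.{u})) :
    IsRegularLocalRing ((Spec A).presheaf.stalk p) := by
  haveI : p.asIdeal.IsPrime := p.2
  haveI := RegLoc6.isRegularLocalRing_localization A p.asIdeal
  exact IsRegularLocalRing.of_ringEquiv (StructureSheaf.stalkIso A p).toRingEquiv

variable {X Y : Scheme.{u}} [IsNoetherian X] [IsNoetherian Y] (b : X ⟶ Y) [IsProper b]
  {k : Type u} [Field k] (u : CohB1.ProjSpace 1 k ⟶ X) [IsClosedImmersion u] (y : Y) (hy : IsClosed ({y} : Set Y))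
  (heff : BlowUp.IsEffCartierIdeal u.ker)
  (φ : (Scheme.Modules.pullback u).obj (ClSub.idealMod u.ker) ≅ Twist.twistProjSpace 1 k 1)
  (hfib : b ⁻¹' {y} = Set.range u) (happ : ∀ U : Y.Opens, IsIso (b.app U))
  (hoff : IsIso (b ∣_ (⟨{y}ᶜ, hy.isOpen_compl⟩ : Y.Opens)))

include hoff in
theorem isIso_stalkMap_off {z : X} (h : b z ≠ y) : IsIso (b.stalkMap z) := by
  let V : Y.Opens := ⟨{y}ᶜ, hy.isOpen_compl⟩
  haveI : IsIso (b ∣_ V) := hoff
  haveI : IsOpenImmersion ((b ⁻¹ᵁ V).ι ≫ b) := by
    rw [← morphismRestrict_ι]; infer_instance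
  have h1 : IsIso (((b ⁻¹ᵁ V).ι ≫ b).stalkMap ⟨z, h⟩) := inferInstance
  rw [Scheme.Hom.stalkMap_comp] at h1
  exact @IsIso.of_isIso_comp_right _ _ _ _ _ (b.stalkMap z) ((b ⁻¹ᵁ V).ι.stalkMap ⟨z, h⟩) inferInstance h1

include hy heff φ hfib happ in
/-- The point is regular of dimension two and its ideal pulls back to that of the line. -/
theorem point_data : IsRegularLocalRing (Y.presheaf.stalk y) ∧ ringKrullDim (Y.presheaf.stalk y) = 2 ∧
    (Scheme.IdealSheafData.vanishingIdeal ⟨{y}, hy⟩).comap b = u.ker := by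
  obtain ⟨v, hvci, hv, hker, hL⟩ := exists_lineFibre b y u hy heff φ hfib
  haveI := hvci
  obtain ⟨h1, h2, h3⟩ := hL.main (bijective_gl b y happ)
  refine ⟨h1, h2, ext_sI fun x => ?_⟩
  let P := pullback.fst b (Y.fromSpecStalk y)
  let S := pullback.snd b (Y.fromSpecStalk y)
  let pt := Scheme.IdealSheafData.vanishingIdeal ⟨{y}, hy⟩
  by_cases hx : b x = y
  · obtain ⟨p, rfl⟩ : x ∈ Set.range u := hfib.le hx
    obtain ⟨z, hz⟩ : ∃ z, z = v p := ⟨_, rfl⟩
    have hPz : P z = u p := by rw [hz, ← Scheme.Hom.comp_apply, hv]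
    rw [← hPz]
    haveI := isIso_stalkMap_fst b y z
    let e := (asIso (P.stalkMap z)).commRingCatIsoToRingEquiv
    have hinj : Function.Injective fun I : Ideal (X.presheaf.stalk (P z)) => I.map (P.stalkMap z).hom :=
      fun I J hIJ => by
        have h4 := congrArg (Ideal.comap (P.stalkMap z).hom) hIJ
        rwa [Ideal.comap_map_of_bijective (P.stalkMap z).hom e.bijective,
          Ideal.comap_map_of_bijective (P.stalkMap z).hom e.bijective] at h4
    refine hinj ?_
    show (sI (pt.comap b) (P z)).map (P.stalkMap z).hom = (sI u.ker (P z)).map (P.stalkMap z).hom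
    rw [← sI_comap, ← sI_comap, ← hker, ← h3 z, ← Scheme.IdealSheafData.comap_comp, pullback.condition,
      Scheme.IdealSheafData.comap_comp, Contraction7.comap_fromSpecStalk hy]
    obtain ⟨W, hW, hzW, -⟩ := exists_isAffineOpen_mem_and_subset (x := z) (U := ⊤) trivial
    have hle : W ≤ S ⁻¹ᵁ ⊤ := le_top
    rw [sI_eq _ ⟨W, hW⟩ hzW, CDivEq.stk, ModPairLib.ideal_comap _ _ ⟨⊤, isAffineOpen_top _⟩ ⟨W, hW⟩ hle,
      BlowUpLib.centre_top, Ideal.map_map, Ideal.map_map]
    refine congrArg (fun f => Ideal.map f _) (RingHom.ext fun c => ?_)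
    show (pullback b (Y.fromSpecStalk y)).presheaf.germ W z hzW (S.appLE ⊤ W hle ((Scheme.ΓSpecIso _).inv c)) = _
    rw [Scheme.Hom.appLE]
    exact (pullback b (Y.fromSpecStalk y)).presheaf.germ_res_apply (homOfLE hle) z hzW _
  · rw [sI_ker_of_notMem u (fun h => hx (hfib.ge h)), PointBlow.sI_eq_top]
    exact fun h => hx ((PointBlow.mem_support_exc hy x).1 h)

include hy heff φ hfib happ hoff in
/-- The blow-up property over the local scheme. -/
theorem isBlowUp_local :
    BlowUp.IsBlowUp (pullback.snd b (Y.fromSpecStalk y))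
      (BlowUpLib.centre (maximalIdeal (Y.presheaf.stalk y))) := by
  obtain ⟨v, hvci, hv, hker, hL⟩ := exists_lineFibre b y u hy heff φ hfib
  haveI := hvci
  obtain ⟨hreg, hdim, h3⟩ := hL.main (bijective_gl b y happ)
  haveI := hreg
  haveI : IsIntegral (CohB1.ProjSpace 1 k) := H23.PnChart.isIntegral_projSpace 1 k
  let A := Y.presheaf.stalk y
  let P := pullback.fst b (Y.fromSpecStalk y)
  let S := pullback.snd b (Y.fromSpecStalk y)
  haveI : IsDomain A := RegLoc6.isDomain_of_isRegularLocalRing _
  haveI : IsNoetherian (Spec A) := {}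
  haveI : IsLocallyNoetherian (pullback b (Y.fromSpecStalk y)) := LocallyOfFiniteType.isLocallyNoetherian S
  haveI : CompactSpace (pullback b (Y.fromSpecStalk y) : Scheme.{u}) := QuasiCompact.compactSpace_of_compactSpace S
  haveI : IsNoetherian (pullback b (Y.fromSpecStalk y)) := {}
  have hYreg : ∀ q : (Spec A : Scheme.{u}), IsRegularLocalRing ((Spec A).presheaf.stalk q) := fun q => regular_spec q
  have hYdim : ∀ q : (Spec A : Scheme.{u}), ringKrullDim ((Spec A).presheaf.stalk q) ≤ 2 := fun q => by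
    refine (CurveCohLib.ringKrullDim_stalk_le_topologicalKrullDim q).trans ?_
    rw [show topologicalKrullDim (Spec A : Scheme.{u}) = ringKrullDim A from
      PrimeSpectrum.topologicalKrullDim_eq_ringKrullDim A, hdim]
  have hSiso : ∀ z, S z ≠ closedPoint A → IsIso (S.stalkMap z) := fun z hz => by
    haveI : Flat (Y.fromSpecStalk y) := H23.RatExtend.flat_fromSpecStalk Y y
    haveI := isIso_stalkMap_fst b y z
    haveI := isIso_stalkMap_off b y hy hoff (z := P z) (fun h => hz ((map_fst_eq_iff b y z).1 h))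
    have h1 : IsIso ((P ≫ b).stalkMap z) := by rw [Scheme.Hom.stalkMap_comp]; infer_instance
    have key : ∀ (g : pullback b (Y.fromSpecStalk y) ⟶ Y), g = S ≫ Y.fromSpecStalk y → IsIso (g.stalkMap z) →
        IsIso (S.stalkMap z) := by
      rintro g rfl hg
      rw [Scheme.Hom.stalkMap_comp] at hg
      haveI := H23.FFDescent.isIso_stalkMap_of_flat_of_isPreimmersion (Y.fromSpecStalk y) (S z)
      exact @IsIso.of_isIso_comp_left _ _ _ _ _ _ _ inferInstance hg
    exact key _ pullback.condition h1
  have hon : ∀ p, IsRegularLocalRing ((pullback b (Y.fromSpecStalk y)).presheaf.stalk (v p)) ∧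
      ringKrullDim ((pullback b (Y.fromSpecStalk y)).presheaf.stalk (v p)) ≤ 2 := fun p => by
    obtain ⟨t, htn, ht⟩ := exists_gen hL.eff (v p)
    have htm : t ∈ maximalIdeal _ := by
      have := (hL.isPrime_sI p).ne_top
      rw [ht, Ne, Ideal.span_singleton_eq_top] at this
      exact this
    let e : ((pullback b (Y.fromSpecStalk y)).presheaf.stalk (v p) ⧸ Ideal.span {t}) ≃+*
        (CohB1.ProjSpace 1 k).presheaf.stalk p :=
      (Ideal.quotEquivOfEq (by rw [← ht, sI_ker v p])).trans
        (RingHom.quotientKerEquivOfSurjective (v.stalkMap_surjective p))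
    haveI := NegVanStalk.isRegular_stalk (k := k) (n := 1) p
    haveI : IsRegularLocalRing (_ ⧸ Ideal.span {t}) := IsRegularLocalRing.of_ringEquiv e.symm
    refine ⟨S0560.result _ t htm htn, ?_⟩
    rw [← ringKrullDim_quotient_span_singleton_succ_eq_ringKrullDim_of_mem_nonZeroDivisors htn htm,
      ringKrullDim_eq_of_ringEquiv e]
    have h1 := CurveCohLib.ringKrullDim_stalk_le_topologicalKrullDim p
    rw [S10829.result k 1] at h1
    exact (add_le_add h1 le_rfl).trans (by norm_num)
  have hoff' : ∀ z, z ∉ Set.range v → S z ≠ closedPoint A := fun z hz h => hz (hL.fib.le h)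
  have hregX : ∀ z, IsRegularLocalRing ((pullback b (Y.fromSpecStalk y)).presheaf.stalk z) := fun z => by
    by_cases hz : z ∈ Set.range v
    · obtain ⟨p, rfl⟩ := hz; exact (hon p).1
    · haveI := hSiso z (hoff' z hz)
      haveI := hYreg (S z)
      exact IsRegularLocalRing.of_ringEquiv (asIso (S.stalkMap z)).commRingCatIsoToRingEquiv
  have hdimX : ∀ z, ringKrullDim ((pullback b (Y.fromSpecStalk y)).presheaf.stalk z) ≤ 2 := fun z => by
    by_cases hz : z ∈ Set.range v
    · obtain ⟨p, rfl⟩ := hz; exact (hon p).2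
    · haveI := hSiso z (hoff' z hz)
      rw [← ringKrullDim_eq_of_ringEquiv (asIso (S.stalkMap z)).commRingCatIsoToRingEquiv]
      exact hYdim _
  let η := v (genericPoint (CohB1.ProjSpace 1 k))
  haveI hintX : IsIntegral (pullback b (Y.fromSpecStalk y)) := isIntegral_of_specializes
    (fun z => by haveI := hregX z; exact RegLoc6.isDomain_of_isRegularLocalRing _) η fun z => by
      obtain ⟨p, hp⟩ := hL.exists_specializes z
      exact ⟨v p, hp, (genericPoint_specializes p).map v.continuous⟩
  have hηc : S η = closedPoint A := hL.fib.ge ⟨_, rfl⟩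
  have hnot : ∀ p, ¬ IsIso (S.stalkMap (v p)) := fun p hiso => by
    haveI := hiso
    obtain ⟨t, htn, ht⟩ := exists_gen hL.eff (v p)
    let f : A →+* (pullback b (Y.fromSpecStalk y)).presheaf.stalk (v p) :=
      ((pullback b (Y.fromSpecStalk y)).presheaf.germ ⊤ (v p) trivial).hom.comp (LineFibre.gl S)
    have hf : Function.Bijective f := by
      have hg := bijective_germ_closedPoint (A := A) (q := S (v p)) (hL.fib.ge ⟨p, rfl⟩)
      have hcomp : f = (S.stalkMap (v p)).hom.comp
          (((Spec A).presheaf.germ ⊤ (S (v p)) trivial).hom.comp (Scheme.ΓSpecIso A).inv.hom) := RingHom.ext fun c =>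
        (Scheme.Hom.germ_stalkMap_apply S ⊤ (v p) trivial ((Scheme.ΓSpecIso A).inv c)).symm
      rw [hcomp, RingHom.coe_comp]
      exact (ConcreteCategory.bijective_of_isIso (S.stalkMap (v p))).comp hg
    obtain ⟨c, rfl⟩ := hf.2 t
    have hmax : maximalIdeal A = Ideal.span {c} := by
      have hf' : Function.Injective (Ideal.map f) := Function.LeftInverse.injective (g := Ideal.comap f)
        fun I => Ideal.comap_map_of_bijective _ hf
      refine hf' ?_
      rw [h3 (v p), ht, Ideal.map_span, Set.image_singleton]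
    have hle1 : ringKrullDim A ≤ 1 := by
      refine (ringKrullDim_le_spanFinrank_maximalIdeal (R := A)).trans ?_
      rw [hmax]
      exact_mod_cast (Submodule.spanFinrank_span_le_ncard_of_finite (Set.finite_singleton c)).trans (by simp)
    rw [hdim] at hle1
    exact absurd hle1 (by norm_num)
  obtain ⟨p0⟩ : Nonempty (CohB1.ProjSpace 1 k) := inferInstance
  have hbir : IsIso (S.stalkMap (genericPoint (pullback b (Y.fromSpecStalk y) : Scheme.{u}))) := by
    refine hSiso _ fun hc => ?_
    obtain ⟨p, hp⟩ : genericPoint (pullback b (Y.fromSpecStalk y) : Scheme.{u}) ∈ Set.range v := hL.fib.le hc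
    exact (hL.isPrime_sI p).ne_top (by rw [hp]; exact sI_genericPoint hL.eff)
  have hirr : IsPreirreducible (S ⁻¹' {closedPoint A}) := by
    rw [hL.fib, ← Set.image_univ]
    exact (PreirreducibleSpace.isPreirreducible_univ).image _ v.continuous.continuousOn
  have hcl : IsClosed ({closedPoint A} : Set (Spec A : Scheme.{u})) := IsLocalRing.isClosed_singleton_closedPoint A
  have key := SurfSeq.isBlowUp_of_irreducible_fibre hregX hdimX S hbir hYreg hYdim (closedPoint A) hcl hSiso hirr
    (x := v p0) (hL.fib.ge ⟨p0, rfl⟩) (hnot p0)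
  show BlowUp.IsBlowUp S (BlowUpLib.centre (maximalIdeal A))
  erw [centre_maximalIdeal (A := A) hcl]
  exact key

end Groth.Agent.ExcContr

namespace Groth.Agent.ExcContr

variable {X Y : Scheme.{u}} [IsNoetherian X] [IsNoetherian Y] (b : X ⟶ Y) [IsProper b]
  {k : Type u} [Field k] (u : CohB1.ProjSpace 1 k ⟶ X) [IsClosedImmersion u] (y : Y) (hy : IsClosed ({y} : Set Y))
  (heff : BlowUp.IsEffCartierIdeal u.ker)
  (φ : (Scheme.Modules.pullback u).obj (ClSub.idealMod u.ker) ≅ Twist.twistProjSpace 1 k 1)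
  (hfib : b ⁻¹' {y} = Set.range u) (happ : ∀ U : Y.Opens, IsIso (b.app U))
  (hoff : IsIso (b ∣_ (⟨{y}ᶜ, hy.isOpen_compl⟩ : Y.Opens)))

include hy heff φ hfib happ hoff in
/-- The contraction is the blowing up of the point. -/
theorem isBlowUp : BlowUp.IsBlowUp b (Scheme.IdealSheafData.vanishingIdeal ⟨{y}, hy⟩) := by
  obtain ⟨hreg, hdim, hcomap⟩ := point_data b u y hy heff φ hfib happ
  obtain ⟨B, β, hβ⟩ := BlowUpLib.exists_blowUp (C := Scheme.IdealSheafData.vanishingIdeal ⟨{y}, hy⟩)
  haveI := PointBlow.isProper_point hy hβ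
  obtain ⟨h, hh, -⟩ := hβ.2 X b (hcomap ▸ heff)
  subst hh
  haveI : IsProper h := IsProper.of_comp h β
  haveI : Flat (Y.fromSpecStalk y) := H23.RatExtend.flat_fromSpecStalk Y y
  have hA := isBlowUp_local (h ≫ β) u y hy heff φ hfib happ hoff
  have hB := PointBlow.blowUp_local hy hβ
  let hloc : pullback (h ≫ β) (Y.fromSpecStalk y) ⟶ pullback β (Y.fromSpecStalk y) :=
    pullback.lift (pullback.fst _ _ ≫ h) (pullback.snd _ _) (by rw [Category.assoc, pullback.condition])
  obtain ⟨e, he⟩ := BlowUpLib.exists_iso hA hB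
  obtain ⟨w, -, hu⟩ := hB.2 _ (pullback.snd (h ≫ β) (Y.fromSpecStalk y)) hA.1
  haveI hiso : IsIso hloc := by
    rw [show hloc = e.hom from (hu hloc (pullback.lift_snd _ _ _)).trans (hu e.hom he).symm]
    infer_instance
  have hfst : hloc ≫ pullback.fst β (Y.fromSpecStalk y) = pullback.fst (h ≫ β) (Y.fromSpecStalk y) ≫ h :=
    pullback.lift_fst _ _ _
  have hstalk : ∀ z : X, IsIso (h.stalkMap z) := fun z => by
    by_cases hz : β (h z) = y
    · obtain ⟨z', rfl, -⟩ := Scheme.Pullback.exists_preimage_pullback (f := h ≫ β) (g := Y.fromSpecStalk y) z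
        (closedPoint (Y.presheaf.stalk y)) (hz.trans (Scheme.fromSpecStalk_closedPoint).symm)
      have key : ∀ (g : pullback (h ≫ β) (Y.fromSpecStalk y) ⟶ B),
          g = pullback.fst (h ≫ β) (Y.fromSpecStalk y) ≫ h → IsIso (g.stalkMap z') →
          IsIso (h.stalkMap (pullback.fst (h ≫ β) (Y.fromSpecStalk y) z')) := by
        rintro g rfl hg
        rw [Scheme.Hom.stalkMap_comp] at hg
        haveI := isIso_stalkMap_fst (h ≫ β) y z'
        exact @IsIso.of_isIso_comp_right _ _ _ _ _ _ ((pullback.fst (h ≫ β) (Y.fromSpecStalk y)).stalkMap z')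
          inferInstance hg
      refine key _ hfst ?_
      haveI := isIso_stalkMap_fst β y (hloc z')
      rw [Scheme.Hom.stalkMap_comp]
      infer_instance
    · haveI := PointBlow.isIso_stalkMap_off hy hβ (z := h z) hz
      have h1 := isIso_stalkMap_off (h ≫ β) y hy hoff (z := z) hz
      rw [Scheme.Hom.stalkMap_comp] at h1
      exact @IsIso.of_isIso_comp_left _ _ _ _ _ _ _ inferInstance h1
  have hinj : Function.Injective h := by
    intro z z' he'
    by_cases hz : β (h z) = y
    · obtain ⟨a, rfl, -⟩ := Scheme.Pullback.exists_preimage_pullback (f := h ≫ β) (g := Y.fromSpecStalk y) z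
        (closedPoint (Y.presheaf.stalk y)) (hz.trans (Scheme.fromSpecStalk_closedPoint).symm)
      obtain ⟨a', rfl, -⟩ := Scheme.Pullback.exists_preimage_pullback (f := h ≫ β) (g := Y.fromSpecStalk y) z'
        (closedPoint (Y.presheaf.stalk y)) ((he' ▸ hz : β (h z') = y).trans (Scheme.fromSpecStalk_closedPoint).symm)
      refine congrArg _ (hloc.homeomorph.injective ((pullback.fst β (Y.fromSpecStalk y)).isEmbedding.injective ?_))
      show pullback.fst β _ (hloc a) = pullback.fst β _ (hloc a')
      rw [← Scheme.Hom.comp_apply, ← Scheme.Hom.comp_apply, hfst]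
      exact he'
    · let V : Y.Opens := ⟨{y}ᶜ, hy.isOpen_compl⟩
      haveI : IsIso ((h ≫ β) ∣_ V) := hoff
      have hz' : β (h z') ≠ y := he' ▸ hz
      have h2 := ((h ≫ β) ∣_ V).homeomorph.injective (a₁ := ⟨z, hz⟩) (a₂ := ⟨z', hz'⟩) (Subtype.ext (by
        refine Eq.trans ?_ (Eq.trans (congrArg β he') ?_)
        · exact congrArg (fun f => f ⟨z, hz⟩) (morphismRestrict_ι (h ≫ β) V)
        · exact (congrArg (fun f => f ⟨z', hz'⟩) (morphismRestrict_ι (h ≫ β) V)).symm))
      exact congrArg Subtype.val h2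
  have hsurj : Function.Surjective h := fun w => by
    by_cases hw : β w = y
    · obtain ⟨a, rfl, -⟩ := PointBlow.exists_lift hy hβ hw
      refine ⟨pullback.fst (h ≫ β) (Y.fromSpecStalk y) (inv hloc a), ?_⟩
      rw [← Scheme.Hom.comp_apply, ← hfst, ← Scheme.Hom.comp_apply, IsIso.inv_hom_id_assoc]
    · let V : Y.Opens := ⟨{y}ᶜ, hy.isOpen_compl⟩
      haveI : IsIso ((h ≫ β) ∣_ V) := hoff
      obtain ⟨a, ha⟩ := ((h ≫ β) ∣_ V).homeomorph.surjective ⟨β w, hw⟩
      have h2 : (h ≫ β) a.1 = β w := by
        have h3 := congrArg (fun f => f a) (morphismRestrict_ι (h ≫ β) V)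
        exact h3.symm.trans (congrArg Subtype.val ha)
      exact ⟨a.1, PointBlow.injective_off hy hβ (h2 ▸ hw) h2⟩
  haveI := hstalk
  haveI : Surjective h := ⟨hsurj⟩
  haveI : IsOpenImmersion h := IsOpenImmersion.of_isIso_stalkMap h
    ((Equiv.ofBijective h ⟨hinj, hsurj⟩).toHomeomorphOfContinuousClosed h.continuous h.isClosedMap).isOpenEmbedding
  haveI : IsIso h := (isIso_iff_isOpenImmersion_and_surjective h).2 ⟨inferInstance, inferInstance⟩
  exact BlowUpLib.isBlowUp_iso_comp h hβ

end Groth.Agent.ExcContr
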