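import Groth.Agent.ExcContr.Sections
import Groth.Agent.PointBlow.Basic
import Mathlib.RingTheory.RegularLocalRing.Defs
import Mathlib.RingTheory.KrullDimension.Zero

/-!
# The base of an exceptional line is regular of dimension two
-/

set_option autoImplicit false
set_option linter.style.haveILetI false
set_option linter.unusedSectionVars false
set_option backward.isDefEq.respectTransparency false
set_option backward.isDefEq.respectTransparency.types false
set_option maxHeartbeats 1000000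

universe u

open CategoryTheory CategoryTheory.Limits AlgebraicGeometry TopologicalSpace IsLocalRing Opposite
open Groth.Agent.H23 Groth.Agent.H23.TrivBasic Groth.Agent.H23.StalkIdeal Groth.Agent.InvX
open scoped Groth.Agent.H23.PicMul

noncomputable section

namespace Groth.Agent.ExcContr.LineFibre

variable {A : CommRingCat.{u}} [IsLocalRing A] [IsNoetherianRing A] {X : Scheme.{u}} {π : X ⟶ Spec A} [IsProper π]
  {k : Type u} [Field k] {u : CohB1.ProjSpace 1 k ⟶ X} [IsClosedImmersion u] (h : LineFibre π u)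
  (hΓ : Function.Bijective (gl π))

local notation "val" => OmegaSh.idealSect u.ker ⊤
local notation "gm" x => X.presheaf.germ ⊤ x trivial

include h in
theorem nzd_coord {s : Γ(ClSub.idealMod u.ker, ⊤)} (hs : ∃ p, u p ∈ locus s) (p : CohB1.ProjSpace 1 k) :
    ∃ t φ : X.presheaf.stalk (u p), sI u.ker (u p) = Ideal.span {t} ∧ t ∈ nonZeroDivisors (X.presheaf.stalk (u p)) ∧
      (gm (u p)) (val s) = φ * t ∧ (IsUnit φ ↔ u p ∈ locus s) ∧
      φ ∈ nonZeroDivisors (X.presheaf.stalk (u p)) ∧ φ ∉ Ideal.span {t} := by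
  haveI : IsLocallyNoetherian X := LocallyOfFiniteType.isLocallyNoetherian π
  obtain ⟨t, φ, ht, htn, he, hiff⟩ := exists_coord_germ h.eff s (u p)
  have hn := h.coord_notMem hs ht he
  exact ⟨t, φ, ht, htn, he, hiff, mem_nonZeroDivisors_of_notMem htn (ht ▸ h.isPrime_sI p) hn, hn⟩

include h in
theorem val_nzd {s : Γ(ClSub.idealMod u.ker, ⊤)} (hs : ∃ p, u p ∈ locus s) (x : X) :
    (gm x) (val s) ∈ nonZeroDivisors (X.presheaf.stalk x) := by
  obtain ⟨p, hp⟩ := h.exists_specializes x
  obtain ⟨t, φ, -, htn, he, -, hφ, -⟩ := h.nzd_coord hs p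
  rw [← X.presheaf.germ_stalkSpecializes_apply (show u p ∈ (⊤ : X.Opens) from trivial) hp]
  refine stalkSpecializes_mem_nonZeroDivisors hp ?_
  rw [he]
  exact mul_mem_nonZeroDivisors.2 ⟨hφ, htn⟩

include h in
/-- The value of a section with nowhere vanishing pullback at the generic point is regular in the base. -/
theorem base_nzd {s : Γ(ClSub.idealMod u.ker, ⊤)} (hs : ∃ p, u p ∈ locus s) (hinj : Function.Injective (gl π))
    {a : A} (ha : gl π a = val s) : a ∈ nonZeroDivisors A := by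
  refine mem_nonZeroDivisors_iff_right.2 fun c hc => hinj ?_
  rw [map_zero]
  refine TopCat.Presheaf.section_ext X.sheaf _ _ _ fun x hx => ?_
  erw [map_zero]
  refine mem_nonZeroDivisors_iff_right.1 (h.val_nzd hs x) _ ?_
  show X.presheaf.germ ⊤ x trivial (gl π c) * _ = 0
  rw [← ha, ← map_mul, ← map_mul, hc, map_zero, map_zero]

include h hΓ in
theorem exists_base (s : Γ(ClSub.idealMod u.ker, ⊤)) : ∃ a ∈ maximalIdeal A, gl π a = val s := by
  obtain ⟨a, ha⟩ := hΓ.2 (val s)
  refine ⟨a, ?_, ha⟩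
  by_contra hna
  obtain ⟨p⟩ : Nonempty (CohB1.ProjSpace 1 k) := by
    haveI : IsIntegral (CohB1.ProjSpace 1 k) := H23.PnChart.isIntegral_projSpace 1 k
    infer_instance
  have h1 := germ_mem_sI u.ker s (show u p ∈ (⊤ : X.Opens) from trivial)
  rw [← ha] at h1
  exact (h.isPrime_sI p).ne_top (Ideal.eq_top_of_isUnit_mem _ h1
    (((IsLocalRing.notMem_maximalIdeal).1 hna).map (gl π) |>.map ((gm (u p))).hom))

include h hΓ in
/-- The maximal ideal is generated by the values of two generating sections. -/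
theorem maximalIdeal_eq {s t : Γ(ClSub.idealMod u.ker, ⊤)} (hcov : ∀ x : X, x ∈ locus s ∨ x ∈ locus t)
    (ht : ∃ p, u p ∈ locus t) {a b : A} (ha : gl π a = val s) (hb : gl π b = val t)
    (ham : a ∈ maximalIdeal A) (hbm : b ∈ maximalIdeal A) : maximalIdeal A = Ideal.span {a, b} := by
  classical
  -- the principal ideal of the second value
  let SJ : ∀ x : X, Ideal (X.presheaf.stalk x) := fun x => Ideal.span {(gm x) (val t)}
  have hgenJ : ∀ x : X, ∃ (U : X.affineOpens) (g : Γ(X, U.1)), x ∈ U.1 ∧ Gen SJ U g := fun x => by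
    obtain ⟨U, hU, hxU, -⟩ := exists_isAffineOpen_mem_and_subset (x := x) (U := ⊤) trivial
    exact ⟨⟨U, hU⟩, X.presheaf.map (homOfLE (le_top : U ≤ ⊤)).op (val t), hxU, fun y hy => by
      show Ideal.span _ = _
      rw [X.presheaf.germ_res_apply]⟩
  let J := ofStalks SJ hgenJ
  have hsJ : ∀ x, sI J x = Ideal.span {(gm x) (val t)} := sI_ofStalks hgenJ
  have hJ : BlowUp.IsEffCartierIdeal J :=
    isEffCartier_ofStalks hgenJ fun x => ⟨_, h.val_nzd ht x, rfl⟩
  obtain ⟨sb, hsb⟩ := exists_sect J (U := ⊤) (val t) fun x _ => by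
    rw [hsJ]; exact Ideal.mem_span_singleton_self _
  have hsbf : IsFrame sb := locus_eq_top_iff.1 (top_le_iff.1 fun x _ => by
    obtain ⟨g, φ, hg, hgn, he, hiff⟩ := exists_coord_germ hJ sb x
    rw [hsb] at he
    refine hiff.1 (isUnit_of_dvd_one ?_)
    obtain ⟨c, hc⟩ := Ideal.mem_span_singleton'.1
      ((hg.symm.trans (hsJ x)).le (Ideal.mem_span_singleton_self g))
    refine ⟨c, ((mul_cancel_right_mem_nonZeroDivisors hgn).1 ?_).symm⟩
    rw [one_mul, mul_right_comm, ← he, mul_comm, hc])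
  have hclJ : PicF.cl (ClSub.idealMod J) = 1 :=
    (PicMul.cl_eq_iff.2 (triv_of_frame hsbf)).trans PicMul.one_def.symm
  -- the residual ideal
  let SK : ∀ x : X, Ideal (X.presheaf.stalk x) := fun x => (SJ x).colon (sI u.ker x : Set (X.presheaf.stalk x))
  have hcoord : ∀ x, ∀ g φ : X.presheaf.stalk x, sI u.ker x = Ideal.span {g} →
      g ∈ nonZeroDivisors (X.presheaf.stalk x) → (gm x) (val t) = φ * g → SK x = Ideal.span {φ} := by
    intro x g φ hg hgn he
    ext c
    rw [Submodule.mem_colon, Ideal.mem_span_singleton']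
    constructor
    · intro hc
      obtain ⟨d, hd⟩ := Ideal.mem_span_singleton'.1 (hc g (hg ▸ Ideal.mem_span_singleton_self g))
      refine ⟨d, (mul_cancel_right_mem_nonZeroDivisors hgn).1 ?_⟩
      rw [mul_assoc, ← he, hd]
      rfl
    · rintro ⟨d, rfl⟩ y hy
      obtain ⟨e, rfl⟩ := Ideal.mem_span_singleton'.1 (hg ▸ hy)
      refine Ideal.mem_span_singleton'.2 ⟨d * e, ?_⟩
      rw [he, smul_eq_mul]
      ring
  have hgenK : ∀ x : X, ∃ (U : X.affineOpens) (g : Γ(X, U.1)), x ∈ U.1 ∧ Gen SK U g := fun x => by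
    obtain ⟨V, hxV, e, he⟩ := InvX.exists_frame h.isInvertible x
    obtain ⟨U, hU, hxU, hUV⟩ := exists_isAffineOpen_mem_and_subset (x := x) (U := V) hxV
    have hle : U ≤ V := hUV
    obtain ⟨g, hg⟩ := he.exists_coord hle (AModX.res (ClSub.idealMod u.ker) (le_top : U ≤ ⊤) t)
    refine ⟨⟨U, hU⟩, g, hxU, fun y hy => hcoord y _ _ (sI_eq_span_of_isFrame u.ker (he.res hle) hy)
      (mem_nonZeroDivisors h.eff (sI_eq_span_of_isFrame u.ker (he.res hle) hy)) ?_⟩
    rw [← map_mul, ← OmegaLib.idealSect_smul, ← hg,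
      show OmegaSh.idealSect u.ker U (AModX.res (ClSub.idealMod u.ker) (le_top : U ≤ ⊤) t) = _ from
        OmegaLib.idealSect_map u.ker (le_top : U ≤ ⊤) t, X.presheaf.germ_res_apply]
  let K := ofStalks SK hgenK
  have hsK : ∀ x, sI K x = SK x := sI_ofStalks hgenK
  have hK : BlowUp.IsEffCartierIdeal K := isEffCartier_ofStalks hgenK fun x => by
    obtain ⟨g, φ, hg, hgn, he, -⟩ := exists_coord_germ h.eff t x
    refine ⟨φ, (mul_mem_nonZeroDivisors (a := φ) (b := g)).1 (he ▸ h.val_nzd ht x) |>.1, hcoord x g φ hg hgn he⟩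
  have hKI : K * u.ker = J := ext_sI fun x => by
    obtain ⟨g, φ, hg, hgn, he, -⟩ := exists_coord_germ h.eff t x
    rw [PointBlow.sI_mul, hsK, hcoord x g φ hg hgn he, hg, Ideal.span_singleton_mul_span_singleton, hsJ, he]
  have hclK : PicF.cl (ClSub.idealMod K) * PicF.cl (ClSub.idealMod u.ker) = 1 := by
    rw [← H26.IdealCl.cl_mul u.ker K hK, hKI, hclJ]
  have hsurjK : Function.Surjective (K.subschemeι.app ⊤) := fun q => by
    obtain ⟨c, hc⟩ := QCoh.app_top_surjective_of_HH_one (DivisorExt.ideal_shortExact K)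
      (h.subsingleton_inverse (H26.IdealCl.isInvertible_idealMod hK) hclK) q
    exact ⟨c, hc⟩
  have hDle : ∀ x : X, x ∈ Set.range K.subschemeι → x ∉ locus t := by
    rintro x ⟨d, rfl⟩ hx
    obtain ⟨g, φ, hg, hgn, he, hiff⟩ := exists_coord_germ h.eff t (K.subschemeι d)
    have h2 := sI_ker K.subschemeι d
    rw [Scheme.IdealSheafData.ker_subschemeι, hsK, hcoord _ g φ hg hgn he,
      Ideal.span_singleton_eq_top.2 (hiff.2 hx)] at h2
    exact RingHom.ker_ne_top _ h2.symm
  refine le_antisymm (fun c hc => ?_) (Ideal.span_le.2 (by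
    rintro z (rfl | rfl)
    · exact ham
    · exact hbm))
  obtain ⟨sc, hsc⟩ := exists_sect u.ker (U := ⊤) (gl π c) fun x _ => h.germ_gl_mem hc x
  let V := locus s
  have hV : IsFrame (AModX.res (ClSub.idealMod u.ker) (le_top : V ≤ ⊤) s) := isFrame_res_of_le_locus le_rfl
  obtain ⟨g0, hg0⟩ := hV.exists_coord le_rfl (AModX.res (ClSub.idealMod u.ker) (le_top : V ≤ ⊤) sc)
  rw [AModX.res_self] at hg0
  have hVtop : (⊤ : K.subscheme.Opens) ≤ K.subschemeι ⁻¹ᵁ V := fun d _ =>
    (hcov _).resolve_right (hDle _ ⟨d, rfl⟩)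
  obtain ⟨q', hq'⟩ := hsurjK (K.subschemeι.appLE V ⊤ hVtop g0)
  obtain ⟨q, hq⟩ := hΓ.2 q'
  have hmem : ∀ x, ∀ hx : x ∈ (⊤ : X.Opens),
      X.presheaf.germ ⊤ x hx (gl π (c - q * a)) ∈ sI J x := by
    intro x _
    rw [hsJ]
    by_cases hxt : x ∈ locus t
    · rw [← sI_eq_span_of_mem_locus u.ker hxt]
      exact h.germ_gl_mem (Ideal.sub_mem _ hc (Ideal.mul_mem_left _ q ham)) x
    · have hxs : x ∈ V := (hcov x).resolve_right hxt
      have hxD : x ∈ Set.range K.subschemeι := by
        by_contra hxD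
        obtain ⟨g, φ, hg, hgn, he, hiff⟩ := exists_coord_germ h.eff t x
        have h2 := sI_ker_of_notMem K.subschemeι hxD
        rw [Scheme.IdealSheafData.ker_subschemeι, hsK, hcoord x g φ hg hgn he, Ideal.span_singleton_eq_top] at h2
        exact hxt (hiff.1 h2)
      obtain ⟨d, rfl⟩ := hxD
      have e1 : (gm (K.subschemeι d)) (gl π c) =
          X.presheaf.germ V _ hxs g0 * (gm (K.subschemeι d)) (gl π a) := by
        rw [← hsc, ha, ← X.presheaf.germ_res_apply (homOfLE (le_top : V ≤ ⊤)) _ hxs,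
          show X.presheaf.map (homOfLE (le_top : V ≤ ⊤)).op (val sc) = _ from
            (OmegaLib.idealSect_map u.ker (le_top : V ≤ ⊤) sc).symm,
          show (ClSub.idealMod u.ker).presheaf.map (homOfLE (le_top : V ≤ ⊤)).op sc = _ from hg0,
          OmegaLib.idealSect_smul, map_mul,
          show OmegaSh.idealSect u.ker V (AModX.res (ClSub.idealMod u.ker) (le_top : V ≤ ⊤) s) = _ from
            OmegaLib.idealSect_map u.ker (le_top : V ≤ ⊤) s, X.presheaf.germ_res_apply]
      have hd : X.presheaf.germ V _ hxs g0 - (gm (K.subschemeι d)) (gl π q) ∈ sI K (K.subschemeι d) := by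
        have h2 := sI_ker K.subschemeι d
        rw [Scheme.IdealSheafData.ker_subschemeι] at h2
        rw [h2, RingHom.mem_ker, map_sub, sub_eq_zero, hq]
        erw [Scheme.Hom.germ_stalkMap_apply, Scheme.Hom.germ_stalkMap_apply, hq']
        rw [Scheme.Hom.appLE]
        exact (K.subscheme.presheaf.germ_res_apply (homOfLE hVtop) d trivial _).symm
      have hkey : (X.presheaf.germ V _ hxs g0 - (gm (K.subschemeι d)) (gl π q)) * (gm (K.subschemeι d)) (gl π a) ∈
          sI J (K.subschemeι d) := by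
        rw [← hKI, PointBlow.sI_mul]
        exact Ideal.mul_mem_mul hd (h.germ_gl_mem ham _)
      rw [hsJ, sub_mul, ← e1, ← map_mul, ← map_mul, ← map_sub, ← map_sub] at hkey
      exact hkey
  obtain ⟨sd, hsd⟩ := exists_sect J (U := ⊤) (gl π (c - q * a)) hmem
  obtain ⟨p', hp'⟩ := hsbf.exists_coord le_rfl sd
  rw [AModX.res_self] at hp'
  obtain ⟨p, hp⟩ := hΓ.2 p'
  have hfin : c - q * a = p * b := hΓ.1 (by
    rw [← hsd, hp', OmegaLib.idealSect_smul, hsb, map_mul, hp, hb])
  rw [Ideal.mem_span_pair]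
  exact ⟨q, p, by linear_combination -hfin⟩

include h hΓ in
theorem main : IsRegularLocalRing A ∧ ringKrullDim A = 2 ∧
    ∀ x : X, (maximalIdeal A).map ((gm x).hom.comp (gl π)) = sI u.ker x := by
  obtain ⟨s, t, hcov, hs, ht⟩ := h.exists_sections
  obtain ⟨a, ham, ha⟩ := h.exists_base hΓ s
  obtain ⟨b, hbm, hb⟩ := h.exists_base hΓ t
  have hm := h.maximalIdeal_eq hΓ hcov ht ha hb ham hbm
  have hstk : ∀ x : X, (maximalIdeal A).map ((gm x).hom.comp (gl π)) = sI u.ker x := fun x => by
    refine le_antisymm (Ideal.map_le_iff_le_comap.2 fun c hc => h.germ_gl_mem hc x) ?_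
    rcases hcov x with hx | hx
    · rw [sI_eq_span_of_mem_locus u.ker hx, Ideal.span_singleton_le_iff_mem, ← ha]
      exact Ideal.mem_map_of_mem _ ham
    · rw [sI_eq_span_of_mem_locus u.ker hx, Ideal.span_singleton_le_iff_mem, ← hb]
      exact Ideal.mem_map_of_mem _ hbm
  have hspan : (maximalIdeal A).spanFinrank ≤ 2 := by
    rw [hm]
    refine (Submodule.spanFinrank_span_le_ncard_of_finite (by simp)).trans ?_
    exact (Set.ncard_insert_le _ _).trans (by simp)
  have hge : (2 : WithBot ℕ∞) ≤ ringKrullDim A := by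
    by_contra hlt
    have hd1 : ringKrullDim A ≤ 1 := by
      rw [not_le] at hlt
      generalize ringKrullDim A = d at hlt
      induction d using WithBot.recBotCoe with
      | bot => exact bot_le
      | coe n =>
        have h2 : n < (2 : ℕ∞) := WithBot.coe_lt_coe.1 hlt
        rw [show (2 : ℕ∞) = 1 + 1 from rfl, ENat.lt_add_one_iff (by simp)] at h2
        exact WithBot.coe_le_coe.2 h2
    obtain ⟨p, hp⟩ := h.exists_notMem_locus s
    have han := h.base_nzd hs hΓ.1 ha
    have hq0 : ringKrullDim (A ⧸ Ideal.span {a}) ≤ 0 := by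
      have h1 := (ringKrullDim_quotient_succ_le_of_nonZeroDivisor han).trans hd1
      generalize ringKrullDim (A ⧸ Ideal.span {a}) = d at h1 ⊢
      induction d using WithBot.recBotCoe with
      | bot => exact bot_le
      | coe n =>
        have h2 : n + 1 ≤ (1 : ℕ∞) := WithBot.coe_le_coe.1 h1
        refine WithBot.coe_le_coe.2 ?_
        rcases eq_or_ne n 0 with rfl | hn0
        · exact le_rfl
        · exact absurd ((add_le_add (Order.one_le_iff_ne_zero.2 hn0) le_rfl).trans h2) (by decide)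
    haveI : Nontrivial (A ⧸ Ideal.span {a}) := Ideal.Quotient.nontrivial_iff.2 fun e => by
      rw [Ideal.span_singleton_eq_top] at e
      exact ham e
    haveI : IsLocalRing (A ⧸ Ideal.span {a}) := IsLocalRing.of_surjective' _ Ideal.Quotient.mk_surjective
    haveI : Ring.KrullDimLE 0 (A ⧸ Ideal.span {a}) := Ring.krullDimLE_iff.2 (by exact_mod_cast hq0)
    obtain ⟨N, hN⟩ : IsNilpotent (Ideal.Quotient.mk (Ideal.span {a}) b) := by
      refine Ring.KrullDimLE.isNilpotent_iff_mem_nonunits.2 fun hu => hbm ?_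
      haveI : IsLocalHom (Ideal.Quotient.mk (Ideal.span {a})) :=
        .of_surjective _ Ideal.Quotient.mk_surjective
      exact isUnit_of_map_unit _ _ hu
    rw [← map_pow, Ideal.Quotient.eq_zero_iff_mem, Ideal.mem_span_singleton'] at hN
    obtain ⟨c, hc⟩ := hN
    obtain ⟨g, φ, hg, hgn, he, hiff, -, hnot⟩ := h.nzd_coord hs p
    have hpt : u p ∈ locus t := (hcov _).resolve_left hp
    obtain ⟨ψ, hψ⟩ := Ideal.mem_span_singleton'.1
      ((hg.symm.trans (sI_eq_span_of_mem_locus u.ker hpt)).le (Ideal.mem_span_singleton_self g))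
    refine hp (hiff.1 (isUnit_of_pow_mem hgn (hg ▸ h.isPrime_sI p) hnot N
      (Ideal.mem_span_singleton'.2 ⟨ψ ^ N * (gm (u p)) (gl π c) * g, ?_⟩)))
    calc ψ ^ N * (gm (u p)) (gl π c) * g * φ = ψ ^ N * (gm (u p)) (gl π (c * a)) := by
          rw [map_mul, map_mul, ha, he]; ring
      _ = _ := by rw [hc, map_pow, map_pow, hb, ← mul_pow, hψ]
  have hle : ringKrullDim A ≤ 2 :=
    (ringKrullDim_le_spanFinrank_maximalIdeal (R := A)).trans (by exact_mod_cast hspan)
  refine ⟨IsRegularLocalRing.of_spanFinrank_maximalIdeal_le A (le_trans (by exact_mod_cast hspan) hge),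
    le_antisymm hle hge, hstk⟩

end Groth.Agent.ExcContr.LineFibre
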