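import Groth.Agent.H26.IdealCl
import Groth.Agent.H23.SecZero
import Groth.Agent.H23.TrivBasic
import Groth.Agent.H23.DiagMult
import Groth.Agent.OmegaLib.IdealMod

/-!
# Sections of ideal sheaves and their values at the stalks
-/

set_option autoImplicit false
set_option linter.style.haveILetI false
set_option linter.unusedSectionVars false
set_option backward.isDefEq.respectTransparency false
set_option backward.isDefEq.respectTransparency.types false

universe u

open CategoryTheory CategoryTheory.Limits AlgebraicGeometry TopologicalSpace IsLocalRing Opposite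
open Groth.Agent.H23 Groth.Agent.H23.TrivBasic Groth.Agent.H23.StalkIdeal Groth.Agent.InvX

noncomputable section

namespace Groth.Agent.ExcContr

variable {X : Scheme.{u}} (J : X.IdealSheafData)

/-- The stalk ideal of a closed immersion. -/
theorem sI_ker {Z : Scheme.{u}} (i : Z ⟶ X) [IsClosedImmersion i] (d : Z) :
    sI i.ker (i d) = RingHom.ker (i.stalkMap d).hom := by
  obtain ⟨W, hW, hd, -⟩ := exists_isAffineOpen_mem_and_subset (x := i d) (U := ⊤) trivial
  rw [← DiagMult.stalkIdeal_ker, MultCM.stalkIdeal_eq i.ker ⟨W, hW⟩ hd, sI_eq _ ⟨W, hW⟩ hd]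

theorem sI_ker_of_notMem {Z : Scheme.{u}} (i : Z ⟶ X) [IsClosedImmersion i] {x : X} (hx : x ∉ Set.range i) :
    sI i.ker x = ⊤ := by
  obtain ⟨W, hW, hd, -⟩ := exists_isAffineOpen_mem_and_subset (x := x) (U := ⊤) trivial
  by_contra h
  rw [sI_eq _ ⟨W, hW⟩ hd, ← ne_eq, ← CDivEq.mem_support_iff] at h
  rw [Scheme.Hom.support_ker, i.isClosedEmbedding.isClosed_range.closure_eq] at h
  exact hx h

theorem germ_mem_sI {U : X.Opens} (s : Γ(ClSub.idealMod J, U)) {x : X} (hx : x ∈ U) :
    X.presheaf.germ U x hx (OmegaSh.idealSect J U s) ∈ sI J x := by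
  obtain ⟨W, hW, hxW, hWU⟩ := exists_isAffineOpen_mem_and_subset (x := x) (U := U) hx
  have hle : W ≤ U := hWU
  have h : OmegaSh.idealSect J W ((ClSub.idealMod J).presheaf.map (homOfLE hle).op s) ∈ J.ideal ⟨W, hW⟩ :=
    OmegaLib.idealSect_mem J ⟨W, hW⟩ _
  erw [OmegaLib.idealSect_map J hle s] at h
  rw [sI_eq J ⟨W, hW⟩ hxW, ← X.presheaf.germ_res_apply (homOfLE hle) x hxW]
  exact Ideal.mem_map_of_mem _ h

/-- A function lying in the ideal at all stalks is a section of the ideal. -/
theorem exists_sect {U : X.Opens} (c : Γ(X, U))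
    (h : ∀ x (hx : x ∈ U), X.presheaf.germ U x hx c ∈ sI J x) :
    ∃ s : Γ(ClSub.idealMod J, U), OmegaSh.idealSect J U s = c := by
  refine OmegaLib.exists_idealSect_eq J U c ?_
  refine TopCat.Presheaf.section_ext J.subscheme.sheaf _ _ _ fun d hd => ?_
  erw [map_zero, ← Scheme.Hom.germ_stalkMap_apply J.subschemeι U d hd c]
  have h1 := h (J.subschemeι d) hd
  have h2 := sI_ker J.subschemeι d
  rw [Scheme.IdealSheafData.ker_subschemeι] at h2
  rw [h2] at h1
  exact RingHom.mem_ker.1 h1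

/-- At a point where a section is a frame its value generates the stalk of the ideal. -/
theorem sI_eq_span_of_isFrame {U : X.Opens} {e : Γ(ClSub.idealMod J, U)} (he : IsFrame e) {x : X} (hx : x ∈ U) :
    sI J x = Ideal.span {X.presheaf.germ U x hx (OmegaSh.idealSect J U e)} := by
  refine le_antisymm ?_ ((Ideal.span_singleton_le_iff_mem _).2 (germ_mem_sI J e hx))
  obtain ⟨W, hW, hxW, hWU⟩ := exists_isAffineOpen_mem_and_subset (x := x) (U := U) hx
  rw [sI_eq J ⟨W, hW⟩ hxW, CDivEq.stk, Ideal.map_le_iff_le_comap]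
  have hle : W ≤ U := hWU
  intro f hf
  obtain ⟨k, rfl⟩ := OmegaLib.exists_of_mem J ⟨W, hW⟩ f hf
  obtain ⟨g, hg⟩ := he.exists_coord hle k
  show X.presheaf.germ W x hxW (OmegaSh.idealSect J W k) ∈ Ideal.span {X.presheaf.germ U x hx (OmegaSh.idealSect J U e)}
  rw [hg, OmegaLib.idealSect_smul, map_mul]
  refine Ideal.mul_mem_left _ _ ?_
  rw [show OmegaSh.idealSect J W (AModX.res (ClSub.idealMod J) hle e) = _ from
    OmegaLib.idealSect_map J hle e, X.presheaf.germ_res_apply]
  exact Ideal.mem_span_singleton_self _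

theorem sI_eq_span_of_mem_locus {s : Γ(ClSub.idealMod J, ⊤)} {x : X} (hx : x ∈ locus s) :
    sI J x = Ideal.span {X.presheaf.germ ⊤ x trivial (OmegaSh.idealSect J ⊤ s)} := by
  obtain ⟨U, hxU, hU⟩ := mem_locus_iff.1 hx
  rw [sI_eq_span_of_isFrame J hU hxU, show OmegaSh.idealSect J U (AModX.res (ClSub.idealMod J) (le_top : U ≤ ⊤) s) =
    _ from OmegaLib.idealSect_map J (le_top : U ≤ ⊤) s, X.presheaf.germ_res_apply]

theorem mem_nonZeroDivisors_of_span {R : Type*} [CommRing R] {t g : R} (hg : g ∈ nonZeroDivisors R)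
    (h : Ideal.span {t} = Ideal.span {g}) : t ∈ nonZeroDivisors R := by
  obtain ⟨c, hc⟩ := Ideal.mem_span_singleton'.1 (h.ge (Ideal.mem_span_singleton_self g))
  exact ((mul_mem_nonZeroDivisors (a := c) (b := t)).1 (hc.symm ▸ hg)).2

variable {J}

/-- The generators of the stalks of an effective Cartier ideal are regular. -/
theorem mem_nonZeroDivisors (hJ : BlowUp.IsEffCartierIdeal J) {x : X} {t : X.presheaf.stalk x}
    (ht : sI J x = Ideal.span {t}) : t ∈ nonZeroDivisors (X.presheaf.stalk x) := by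
  obtain ⟨g, hg, hgs⟩ := exists_gen hJ x
  exact mem_nonZeroDivisors_of_span hg (ht.symm.trans hgs)

/-- The value of a section at a point, in a local generator. -/
theorem exists_coord_germ (hJ : BlowUp.IsEffCartierIdeal J) (s : Γ(ClSub.idealMod J, ⊤)) (x : X) :
    ∃ t φ : X.presheaf.stalk x, sI J x = Ideal.span {t} ∧ t ∈ nonZeroDivisors (X.presheaf.stalk x) ∧
      X.presheaf.germ ⊤ x trivial (OmegaSh.idealSect J ⊤ s) = φ * t ∧ (IsUnit φ ↔ x ∈ locus s) := by
  obtain ⟨U, hxU, e, he⟩ := InvX.exists_frame (H26.IdealCl.isInvertible_idealMod hJ) x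
  obtain ⟨g, hg⟩ := he.exists_coord le_rfl (AModX.res (ClSub.idealMod J) (le_top : U ≤ ⊤) s)
  rw [AModX.res_self] at hg
  refine ⟨_, X.presheaf.germ U x hxU g, sI_eq_span_of_isFrame J he hxU,
    mem_nonZeroDivisors hJ (sI_eq_span_of_isFrame J he hxU), ?_, ?_⟩
  · rw [← map_mul, ← OmegaLib.idealSect_smul, ← hg,
      show OmegaSh.idealSect J U (AModX.res (ClSub.idealMod J) (le_top : U ≤ ⊤) s) = _ from
        OmegaLib.idealSect_map J (le_top : U ≤ ⊤) s, X.presheaf.germ_res_apply]
  · rw [← Scheme.mem_basicOpen X g x hxU, ← locus_eq_basicOpen he hg]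
    exact ⟨fun h => h.1, fun h => ⟨h, hxU⟩⟩

end Groth.Agent.ExcContr
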