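import Groth.Agent.ExcContr.Vanish
import Groth.Agent.ExcContr.Sects
import Groth.Agent.VarGeom.Normal

/-!
# Local algebra along an exceptional line
-/

set_option autoImplicit false
set_option linter.style.haveILetI false
set_option linter.unusedSectionVars false
set_option backward.isDefEq.respectTransparency false
set_option backward.isDefEq.respectTransparency.types false

universe u

open CategoryTheory CategoryTheory.Limits AlgebraicGeometry TopologicalSpace IsLocalRing Opposite
open Groth.Agent.H23 Groth.Agent.H23.TrivBasic Groth.Agent.H23.StalkIdeal Groth.Agent.InvX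

noncomputable section

namespace Groth.Agent.ExcContr

/-- An element outside a prime generated by a regular element of a noetherian local ring is regular. -/
theorem mem_nonZeroDivisors_of_notMem {R : Type*} [CommRing R] [IsNoetherianRing R] [IsLocalRing R] {t φ : R}
    (ht : t ∈ nonZeroDivisors R) (hp : (Ideal.span {t}).IsPrime) (hφ : φ ∉ Ideal.span {t}) :
    φ ∈ nonZeroDivisors R := by
  refine mem_nonZeroDivisors_iff_right.2 fun c hc => ?_
  have key : ∀ n : ℕ, ∀ c : R, c * φ = 0 → c ∈ Ideal.span {t} ^ n := by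
    intro n
    induction n with
    | zero => simp
    | succ n ih =>
      intro c hc
      obtain ⟨d, rfl⟩ := Ideal.mem_span_singleton'.1 ((hp.mem_or_mem (hc ▸ zero_mem _)).resolve_right hφ)
      rw [pow_succ]
      exact Ideal.mul_mem_mul (ih d (mem_nonZeroDivisors_iff_right.1 ht _ (by rw [← hc]; ring)))
        (Ideal.mem_span_singleton_self t)
  have h : c ∈ ⨅ n : ℕ, Ideal.span {t} ^ n := Ideal.mem_iInf.2 fun n => key n c hc
  rwa [Ideal.iInf_pow_eq_bot_of_isLocalRing _ hp.ne_top, Ideal.mem_bot] at h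

/-- A regular prime element does not divide into a smaller ideal. -/
theorem isUnit_of_pow_mem {R : Type*} [CommRing R] {t φ : R} (ht : t ∈ nonZeroDivisors R)
    (hp : (Ideal.span {t}).IsPrime) (hφ : φ ∉ Ideal.span {t}) :
    ∀ n : ℕ, t ^ n ∈ Ideal.span {φ} → IsUnit φ := by
  intro n
  induction n with
  | zero => intro h; rw [pow_zero, Ideal.mem_span_singleton] at h; exact isUnit_of_dvd_one h
  | succ n ih =>
    intro h
    obtain ⟨c, hc⟩ := Ideal.mem_span_singleton'.1 h
    obtain ⟨d, rfl⟩ := Ideal.mem_span_singleton'.1 ((hp.mem_or_mem (hc ▸ Ideal.pow_mem_of_mem _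
      (Ideal.mem_span_singleton_self t) _ (Nat.succ_pos n))).resolve_right hφ)
    refine ih (Ideal.mem_span_singleton'.2 ⟨d, ?_⟩)
    rw [← sub_eq_zero]
    refine mem_nonZeroDivisors_iff_right.1 ht _ ?_
    rw [pow_succ] at hc
    linear_combination hc

variable {X : Scheme.{u}}

/-- Regular germs stay regular at generalisations. -/
theorem stalkSpecializes_mem_nonZeroDivisors {y z : X} (h : y ⤳ z) {a : X.presheaf.stalk z}
    (ha : a ∈ nonZeroDivisors (X.presheaf.stalk z)) :
    X.presheaf.stalkSpecializes h a ∈ nonZeroDivisors (X.presheaf.stalk y) := by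
  obtain ⟨S, hS⟩ := VarGeom.exists_isLocalization_stalkSpecializes h
  letI := (X.presheaf.stalkSpecializes h).hom.toAlgebra
  exact IsLocalization.nonZeroDivisors_le_comap S (X.presheaf.stalk y) ha

namespace LineFibre

variable {A : CommRingCat.{u}} [IsLocalRing A] [IsNoetherianRing A] {π : X ⟶ Spec A} [IsProper π]
  {k : Type u} [Field k] {u : CohB1.ProjSpace 1 k ⟶ X} [IsClosedImmersion u] (h : LineFibre π u)

variable (π) in
/-- The function on `X` of an element of the base ring. -/
def gl : A →+* Γ(X, ⊤) := (π.appTop).hom.comp (Scheme.ΓSpecIso A).inv.hom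

include h in
theorem isPrime_sI (p : CohB1.ProjSpace 1 k) : (sI u.ker (u p)).IsPrime := by
  haveI : IsIntegral (CohB1.ProjSpace 1 k) := H23.PnChart.isIntegral_projSpace 1 k
  rw [sI_ker u p]
  exact RingHom.ker_isPrime _

include h in
theorem not_isUnit_germ {c : A} (hc : c ∈ maximalIdeal A) (p : CohB1.ProjSpace 1 k) :
    ¬ IsUnit (X.presheaf.germ ⊤ (u p) trivial (gl π c)) := by
  intro hu
  rw [← Scheme.mem_basicOpen X (gl π c) (u p) trivial] at hu
  have h1 : u p ∈ π ⁻¹ᵁ (Spec A).basicOpen ((Scheme.ΓSpecIso A).inv c) := by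
    rw [Scheme.preimage_basicOpen]; exact hu
  have h2 : π (u p) = closedPoint A := h.fib.ge ⟨p, rfl⟩
  rw [basicOpen_eq_of_affine] at h1
  change π (u p) ∈ PrimeSpectrum.basicOpen c at h1
  rw [h2] at h1
  exact h1 hc

include h in
theorem appTop_gl {c : A} (hc : c ∈ maximalIdeal A) : u.appTop (gl π c) = 0 := by
  haveI : IsIntegral (CohB1.ProjSpace 1 k) := H23.PnChart.isIntegral_projSpace 1 k
  have hfld : IsField Γ(CohB1.ProjSpace 1 k, ⊤) := by
    haveI : IsProper (CohB1.ProjSpace 1 k ↘ Spec (CommRingCat.of k)) := PnCoh.Chow.isProper_toSpec 1 k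
    exact isField_of_universallyClosed k (CohB1.ProjSpace 1 k ↘ Spec (CommRingCat.of k))
  by_contra hne
  obtain ⟨d, hd⟩ := hfld.mul_inv_cancel hne
  obtain ⟨p⟩ : Nonempty (CohB1.ProjSpace 1 k) := inferInstance
  refine h.not_isUnit_germ hc p (isUnit_of_map_unit (u.stalkMap p).hom _ ?_)
  erw [Scheme.Hom.germ_stalkMap_apply]
  exact (IsUnit.of_mul_eq_one d hd).map
    ((CohB1.ProjSpace 1 k).presheaf.germ (u ⁻¹ᵁ ⊤) p (show u p ∈ (⊤ : X.Opens) from trivial)).hom

include h in
theorem germ_gl_mem {c : A} (hc : c ∈ maximalIdeal A) (x : X) :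
    X.presheaf.germ ⊤ x trivial (gl π c) ∈ sI u.ker x := by
  by_cases hx : x ∈ Set.range u
  · obtain ⟨p, rfl⟩ := hx
    rw [sI_ker u p, RingHom.mem_ker]
    erw [Scheme.Hom.germ_stalkMap_apply]
    show (CohB1.ProjSpace 1 k).presheaf.germ _ p _ (u.appTop (gl π c)) = 0
    rw [h.appTop_gl hc, map_zero]
  · rw [sI_ker_of_notMem u hx]
    trivial

include h in
/-- A section whose locus contains the generic point of the line has coordinates outside the ideal. -/
theorem coord_notMem {s : Γ(ClSub.idealMod u.ker, ⊤)} (hs : ∃ p, u p ∈ locus s) {p : CohB1.ProjSpace 1 k}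
    {t φ : X.presheaf.stalk (u p)} (ht : sI u.ker (u p) = Ideal.span {t})
    (he : X.presheaf.germ ⊤ (u p) trivial (OmegaSh.idealSect u.ker ⊤ s) = φ * t) :
    φ ∉ Ideal.span {t} := by
  haveI : IsIntegral (CohB1.ProjSpace 1 k) := H23.PnChart.isIntegral_projSpace 1 k
  intro hφ
  let η := u (genericPoint (CohB1.ProjSpace 1 k))
  obtain ⟨q, hq⟩ := hs
  have hη : η ∈ locus s := ((genericPoint_specializes q).map u.continuous).mem_open (locus s).2 hq
  have hsp : η ⤳ u p := (genericPoint_specializes p).map u.continuous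
  obtain ⟨t', φ', ht', hnz, he', hiff⟩ := exists_coord_germ h.eff s η
  let σ := (X.presheaf.stalkSpecializes hsp).hom
  have hspan : Ideal.span {σ t} = Ideal.span {t'} := by
    rw [← ht', sI_spec _ hsp, ht, Ideal.map_span, Set.image_singleton]
  obtain ⟨w, hw⟩ := Ideal.mem_span_singleton'.1 (hspan.le (Ideal.mem_span_singleton_self (σ t)))
  obtain ⟨d, hd⟩ := Ideal.mem_span_singleton'.1 hφ
  have h1 : σ (X.presheaf.germ ⊤ (u p) trivial (OmegaSh.idealSect u.ker ⊤ s)) = φ' * t' := by
    rw [← he']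
    exact X.presheaf.germ_stalkSpecializes_apply _ _ _
  rw [he, map_mul, ← hd, map_mul, ← hw] at h1
  have h2 : φ' = σ d * w * w * t' :=
    ((mul_cancel_right_mem_nonZeroDivisors hnz).1 (h1.symm.trans (by ring))).trans rfl
  have h3 : φ' ∈ sI u.ker η := by rw [ht', h2]; exact Ideal.mul_mem_left _ _ (Ideal.mem_span_singleton_self _)
  have h4 : sI u.ker η ≠ ⊤ := (h.isPrime_sI _).ne_top
  exact h4 (Ideal.eq_top_of_isUnit_mem _ h3 (hiff.2 hη))

end LineFibre

end Groth.Agent.ExcContr
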