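import Groth.Agent.ExcContr.Local
import Groth.Agent.ProjUPX.Unique

/-!
# Generating sections of the ideal of an exceptional line
-/

set_option autoImplicit false
set_option linter.style.haveILetI false
set_option linter.unusedSectionVars false
set_option backward.isDefEq.respectTransparency false
set_option backward.isDefEq.respectTransparency.types false

universe u

open CategoryTheory CategoryTheory.Limits AlgebraicGeometry TopologicalSpace IsLocalRing Opposite
open Groth.Agent.H23 Groth.Agent.H23.TrivBasic Groth.Agent.InvX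
open scoped Groth.Agent.H23.PicMul

noncomputable section

namespace Groth.Agent.ExcContr

theorem mem_locus_map_iso {Y : Scheme.{u}} {L M : Y.Modules} (e : L ≅ M) {s : Γ(L, ⊤)} {x : Y} (hx : x ∈ locus s) :
    x ∈ locus (e.hom.app ⊤ s) := by
  obtain ⟨U, hxU, hU⟩ := mem_locus_iff.1 hx
  refine mem_locus_iff.2 ⟨U, hxU, ?_⟩
  have h := hU.map_iso e
  rw [AModX.app_res] at h
  exact h

namespace LineFibre

variable {A : CommRingCat.{u}} [IsLocalRing A] [IsNoetherianRing A] {X : Scheme.{u}} {π : X ⟶ Spec A} [IsProper π]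
  {k : Type u} [Field k] {u : CohB1.ProjSpace 1 k ⟶ X} [IsClosedImmersion u] (h : LineFibre π u)
include h

theorem surjective_pullElt : Function.Surjective
    fun s : Γ(ClSub.idealMod u.ker, ⊤) =>
      (show Γ((Scheme.Modules.pullback u).obj (ClSub.idealMod u.ker), ⊤) from pullElt u s) := by
  let I := ClSub.idealMod u.ker
  have hI2 := PicMul.isInvertible_tensor h.isInvertible h.isInvertible
  obtain ⟨f, M, g, w, ⟨eM⟩, hS⟩ := H26.ArtinTriv.exists_seq u h.isInvertible (Iso.refl (CohB1.tensorMod I I))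
  have hsurj := QCoh.app_top_surjective_of_HH_one hS
    (h.subsingleton_pow 2 hI2 (by rw [PicMul.cl_tensor, pow_two]))
  let adj := Scheme.Modules.pullbackPushforwardAdjunction u
  let g' : (Scheme.Modules.pullback u).obj I ⟶ M := (adj.homEquiv I M).symm g
  haveI : Epi g := hS.epi_g
  haveI : Epi ((Scheme.Modules.pullbackPushforwardAdjunction u).homEquiv I M g') := by
    rw [show (adj.homEquiv I M g') = g from Equiv.apply_symm_apply _ _]; infer_instance
  haveI : Epi g' := H26.LefPic.epi_of_epi_homEquiv u g'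
  haveI : IsIso g' := SeesawX.isIso_of_epi_rank
    (SeesawX.isFinLocFreeOfRank_one (PicClLib.isInvertible_pullback _ h.isInvertible))
    (SeesawX.isFinLocFreeOfRank_one (PicMul.isInvertible_of_iso eM.symm
      (PicClLib.isInvertible_pullback _ h.isInvertible))) g'
  intro τ
  obtain ⟨s, hs⟩ := hsurj (g'.app ⊤ τ)
  have hbij : Function.Bijective (g'.app ⊤) :=
    (ConcreteCategory.isIso_iff_bijective _).1 (Scheme.Modules.Hom.isIso_iff_isIso_app.1 inferInstance ⊤)
  refine ⟨s, hbij.1 (Eq.trans ?_ hs)⟩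
  show g'.app ⊤ (pullElt u s) = g.app ⊤ s
  conv_rhs => rw [show g = adj.homEquiv I M g' from (Equiv.apply_symm_apply _ _).symm]
  rfl

/-- Two sections generating everywhere. -/
theorem exists_sections : ∃ s t : Γ(ClSub.idealMod u.ker, ⊤), (∀ x : X, x ∈ locus s ∨ x ∈ locus t) ∧
    (∃ p, u p ∈ locus s) ∧ (∃ p, u p ∈ locus t) := by
  obtain ⟨φ⟩ := h.conormal
  let 𝒜 := CohB1.polyGrading 1 k
  let X' : Fin (1 + 1) → MvPolynomial (Fin (1 + 1)) k := fun j => MvPolynomial.X j
  have hX : ∀ j, X' j ∈ 𝒜 1 := fun j => ProjPt.X_mem j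
  have hcov : ⨆ j, Proj.basicOpen 𝒜 (X' j) = ⊤ := top_le_iff.1 fun y _ => Opens.mem_iSup.2 (ProjUPX.cov_X y)
  have key : ∀ j, ∃ s : Γ(ClSub.idealMod u.ker, ⊤),
      (∀ p, p ∈ Proj.basicOpen 𝒜 (X' j) → u p ∈ locus s) ∧ ∃ p, u p ∈ locus s := by
    intro j
    let σ : Γ(Twist.twistProjSpace 1 k 1, ⊤) := ProjUPX.sec 𝒜 (hX j)
    obtain ⟨s, hs⟩ := h.surjective_pullElt (φ.inv.app ⊤ σ)
    have hmem : ∀ p, p ∈ Proj.basicOpen 𝒜 (X' j) → u p ∈ locus s := fun p hp => by
      have h1 : p ∈ locus (φ.inv.app ⊤ σ) := mem_locus_map_iso φ.symm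
        (show p ∈ locus σ by
          show p ∈ CohB1.genLocus _ _
          exact (AmpleX.genLocus_sec 𝒜 X' hX hcov (hX j)).symm ▸ hp)
      rw [← hs] at h1
      have h2 : p ∈ u ⁻¹ᵁ locus s := by rw [← locus_pullElt h.isInvertible u s]; exact h1
      exact h2
    let v : ProjectiveSpectrum 𝒜 := ⟨⊥, by
      rw [HomogeneousIdeal.toIdeal_bot]; exact Ideal.isPrime_bot, fun hle => by
      have h2 := hle (HomogeneousIdeal.mem_irrelevant_of_mem _ Nat.one_pos (hX j))
      change _ ∈ (⊥ : HomogeneousIdeal 𝒜).toIdeal at h2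
      rw [HomogeneousIdeal.toIdeal_bot, Ideal.mem_bot] at h2
      exact MvPolynomial.X_ne_zero _ h2⟩
    refine ⟨s, hmem, v, hmem v ?_⟩
    show X' j ∉ (⊥ : HomogeneousIdeal 𝒜).toIdeal
    rw [HomogeneousIdeal.toIdeal_bot, Ideal.mem_bot]
    exact MvPolynomial.X_ne_zero _
  choose s hs hne using key
  refine ⟨s 0, s 1, fun x => ?_, hne 0, hne 1⟩
  have htop : locus (s 0) ⊔ locus (s 1) = ⊤ := h.eq_top fun p => by
    obtain ⟨j, hj⟩ := Opens.mem_iSup.1 (hcov.ge (trivial : p ∈ (⊤ : Opens _)))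
    fin_cases j
    · exact Or.inl (hs 0 p hj)
    · exact Or.inr (hs 1 p hj)
  exact htop.ge (trivial : x ∈ (⊤ : X.Opens))

/-- No section generates along the whole line. -/
theorem exists_notMem_locus (s : Γ(ClSub.idealMod u.ker, ⊤)) : ∃ p, u p ∉ locus s := by
  by_contra hall
  push Not at hall
  have htop := locus_eq_top_iff.1 (h.eq_top hall)
  obtain ⟨e⟩ := (triv_of_frame htop).pullback u
  have h1 : PicMul.pullHom u (PicF.cl (ClSub.idealMod u.ker)) = 1 :=
    (PicMul.cl_eq_iff.2 ⟨e⟩).trans PicMul.one_def.symm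
  rw [h.pullHom_cl] at h1
  exact one_ne_zero (ExcTwist.tw_eq_one k h1)

end LineFibre

end Groth.Agent.ExcContr
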