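import Groth.Agent.ExcContr.BlowUp
import Groth.Agent.S0388
import Groth.Agent.S1297
import Groth.Agent.H26.GGContract.Fibre
import Groth.Agent.MorLib.Birat

/-!
# The Stein factorization contracts an exceptional curve
-/

set_option autoImplicit false
set_option linter.style.haveILetI false
set_option linter.unusedSectionVars false
set_option backward.isDefEq.respectTransparency false
set_option backward.isDefEq.respectTransparency.types false

universe u

open CategoryTheory CategoryTheory.Limits AlgebraicGeometry TopologicalSpace IsLocalRing Opposite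
open Groth.Agent.H23

noncomputable section

namespace Groth.Agent.ExcContr

theorem ker_iso_comp {P E X : Scheme.{u}} (e : P ≅ E) (ι : E ⟶ X) [IsClosedImmersion ι] :
    (e.hom ≫ ι).ker = ι.ker := by
  refine StalkIdeal.ext_sI fun x => ?_
  by_cases hx : x ∈ Set.range ι
  · obtain ⟨a, rfl⟩ := hx
    obtain ⟨p, rfl⟩ : ∃ p, e.hom p = a := ⟨e.inv a, by rw [← Scheme.Hom.comp_apply, Iso.inv_hom_id]; rfl⟩
    rw [sI_ker ι (e.hom p)]
    show StalkIdeal.sI (e.hom ≫ ι).ker ((e.hom ≫ ι) p) = _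
    rw [sI_ker (e.hom ≫ ι) p, Scheme.Hom.stalkMap_comp]
    exact RingHom.ker_comp_of_injective _ (ConcreteCategory.bijective_of_isIso (e.hom.stalkMap p)).1
  · rw [sI_ker_of_notMem ι hx, sI_ker_of_notMem (e.hom ≫ ι) fun ⟨p, hp⟩ => hx ⟨e.hom p, hp⟩]

theorem isIso_unitToPush {X Y : Scheme.{u}} (b : X ⟶ Y) (h : ∀ U : Y.Opens, IsIso (b.app U)) :
    IsIso (ClSub.unitToPush b) := by
  refine Scheme.Modules.Hom.isIso_iff_isIso_app.2 fun U => (ConcreteCategory.isIso_iff_bijective _).2 ?_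
  haveI := h U
  exact ConcreteCategory.bijective_of_isIso (b.app U)

/-- A finite morphism with trivial direct image of functions is an isomorphism. -/
theorem isIso_of_isAffineHom {X Y : Scheme.{u}} (b : X ⟶ Y) [IsAffineHom b] (h : ∀ U : Y.Opens, IsIso (b.app U)) :
    IsIso b := by
  refine (IsZariskiLocalAtTarget.iff_of_iSup_eq_top (P := MorphismProperty.isomorphisms Scheme.{u})
    (fun U : Y.affineOpens => U.1) (iSup_affineOpens_eq_top Y)).2 fun U => ?_
  haveI : IsAffine (U.1 : Scheme.{u}) := U.2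
  haveI : IsAffine ((b ⁻¹ᵁ U.1 : X.Opens) : Scheme.{u}) := U.2.preimage b
  haveI := h ((U.1 : Y.Opens).ι ''ᵁ ⊤)
  haveI : IsIso (b ∣_ U.1).appTop := by
    rw [Scheme.Hom.appTop, morphismRestrict_app]
    infer_instance
  exact MorLib.Birat.isIso_of_appTop (b ∣_ U.1)

variable {E X Y : Scheme.{u}} [IsNoetherian X] [IsNoetherian Y]
  (ι : E ⟶ X) [IsClosedImmersion ι] (hE : Models.IsExcCurve ι) (f : X ⟶ Y) [IsProper f]
  (y : Y) (hy : Set.range ((ι ≫ f).base : E → Y) = {y})
  (hqf : LocallyQuasiFinite (Scheme.Opens.ι (X := X) ι.ker.support.compl ≫ f))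

include hE hy hqf in
theorem exists_contraction :
    ∃ (X' : Scheme.{u}) (b : X ⟶ X') (g : X' ⟶ Y), Models.IsContractionOf ι b ∧ b ≫ g = f ∧ IsFinite g ∧
      IsIso (ClSub.unitToPush b) := by
  obtain ⟨heff, k, hk, e, ⟨φ⟩⟩ := hE
  let b := f.toNormalization
  let g := f.fromNormalization
  haveI hgfin : IsFinite g := S1297.result f
  have hbg : b ≫ g = f := f.toNormalization_fromNormalization
  obtain ⟨hgc, happ⟩ := S0388.result f
  haveI := hgc
  haveI : IsLocallyNoetherian f.normalization := LocallyOfFiniteType.isLocallyNoetherian g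
  haveI : CompactSpace f.normalization := QuasiCompact.compactSpace_of_compactSpace g
  haveI : IsNoetherian f.normalization := {}
  haveI : IsProper b := by
    haveI : IsProper (b ≫ g) := by rw [hbg]; infer_instance
    exact IsProper.of_comp b g
  haveI : IsIntegral (CohB1.ProjSpace 1 k) := H23.PnChart.isIntegral_projSpace 1 k
  obtain ⟨p0⟩ : Nonempty (CohB1.ProjSpace 1 k) := inferInstance
  let u := e.hom ≫ ι
  have hker : u.ker = ι.ker := ker_iso_comp e ι
  have hrange : Set.range u = Set.range ι :=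
    Set.Subset.antisymm (fun _ ⟨p, hp⟩ => ⟨e.hom p, hp⟩) fun _ ⟨a, ha⟩ => ⟨e.inv a, by
      show ι (e.hom (e.inv a)) = _
      rw [← Scheme.Hom.comp_apply e.inv e.hom, Iso.inv_hom_id]
      exact ha⟩
  have hfu : ∀ p, g (b (u p)) = y := fun p => by
    have h1 : f (ι (e.hom p)) ∈ ({y} : Set Y) := hy.le ⟨e.hom p, rfl⟩
    rw [← hbg] at h1
    exact h1
  have hone : ∀ p q, b (u p) = b (u q) := fun p q => by
    haveI : DiscreteTopology ↥(g ⁻¹' {y}) := isDiscrete_iff_discreteTopology.mp (g.isDiscrete_preimage_singleton y)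
    let c : CohB1.ProjSpace 1 k → ↥(g ⁻¹' {y}) := fun p => ⟨b (u p), hfu p⟩
    have hc : Continuous c := (b.continuous.comp u.continuous).subtype_mk _
    exact congrArg Subtype.val (PreconnectedSpace.constant inferInstance hc (x := p) (y := q))
  let y' := b (u p0)
  have hbu : ∀ p, b (u p) = y' := fun p => hone p p0
  have hyc : IsClosed ({y'} : Set f.normalization) := by
    have h1 : b '' Set.range u = {y'} := by
      rw [← Set.range_comp]
      exact Set.Subset.antisymm (by rintro _ ⟨p, rfl⟩; exact hbu p) (by rintro _ rfl; exact ⟨p0, rfl⟩)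
    exact h1 ▸ b.isClosedMap _ u.isClosedEmbedding.isClosed_range
  -- the open complement
  let U : X.Opens := ι.ker.support.compl
  have hU : ∀ x, x ∈ U ↔ x ∉ Set.range u := fun x => by
    rw [hrange]
    show x ∉ (ι.ker.support : Set X) ↔ _
    rw [Scheme.Hom.support_ker]
    rw [ι.isClosedEmbedding.isClosed_range.closure_eq]
  haveI := hqf
  have hfib : b ⁻¹' {y'} = Set.range u := by
    refine Set.Subset.antisymm (fun x hx => ?_) (by rintro _ ⟨p, rfl⟩; exact hbu p)
    by_contra hxu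
    have hxU : x ∈ U := (hU x).2 hxu
    have hfx : f x = y := by
      rw [← hbg, Scheme.Hom.comp_apply, show b x = y' from hx]
      exact hfu p0
    let q := U.ι ≫ f
    have hdisc : _root_.IsDiscrete (q ⁻¹' {y}) := q.isDiscrete_preimage_singleton y
    rw [isDiscrete_iff_discreteTopology] at hdisc
    obtain ⟨N, hN, hNx⟩ : ∃ N : Set (U : Scheme.{u}), IsOpen N ∧ N ∩ q ⁻¹' {y} = {⟨x, hxU⟩} := by
      obtain ⟨N, hN, hNe⟩ := isOpen_induced_iff.1 (isOpen_discrete ({⟨⟨x, hxU⟩, hfx⟩} : Set ↥(q ⁻¹' {y})))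
      refine ⟨N, hN, Set.ext fun w => ⟨fun ⟨h1, h2⟩ => ?_, ?_⟩⟩
      · exact congrArg Subtype.val (hNe.le (show (⟨w, h2⟩ : ↥(q ⁻¹' {y})) ∈ Subtype.val ⁻¹' N from h1))
      · rintro rfl
        exact ⟨hNe.ge (Set.mem_singleton (⟨⟨x, hxU⟩, hfx⟩ : ↥(q ⁻¹' {y}))), hfx⟩
    have hopen : ∀ z, f z = y → z ∈ U.ι '' N → z = x := fun z hz ⟨w, hw, hwz⟩ => by
      subst hwz
      exact congrArg U.ι (hNx.le ⟨hw, hz⟩)
    have hNo : IsOpen (U.ι '' N) := U.ι.isOpenEmbedding.isOpenMap _ hN
    have hxN : x ∈ U.ι '' N := ⟨⟨x, hxU⟩, (hNx.ge rfl).1, rfl⟩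
    -- closed in the fibre
    obtain ⟨x', hx'⟩ : x ∈ Set.range (f.fiberι y) := (f.range_fiberι y).ge hfx
    haveI : JacobsonSpace (f.fiber y) := LocallyOfFiniteType.jacobsonSpace (f.fiberToSpecResidueField y)
    have hsing : IsOpen ({x'} : Set (f.fiber y)) := by
      have : ({x'} : Set (f.fiber y)) = f.fiberι y ⁻¹' (U.ι '' N) := Set.ext fun w => ⟨by
        rintro rfl; show f.fiberι y w ∈ U.ι '' N; rw [hx']; exact hxN, fun hw => (f.fiberι y).isEmbedding.injective
          ((hopen _ ((f.range_fiberι y).le ⟨w, rfl⟩) hw).trans hx'.symm)⟩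
      rw [this]
      exact hNo.preimage (f.fiberι y).continuous
    have hclosed : IsClosed ({x'} : Set (f.fiber y)) := by
      obtain ⟨w, hw, hwc⟩ := nonempty_inter_closedPoints (Set.singleton_nonempty x') hsing.isLocallyClosed
      rwa [Set.mem_singleton_iff.1 hw] at hwc
    have h1 : ∀ z, x ⤳ z → b z = b x → z = x := fun z hxz hz => by
      have hfz : f z = y := by
        rw [← hfx, ← hbg]
        exact congrArg g hz
      obtain ⟨z', rfl⟩ := (f.range_fiberι y).ge hfz
      rw [← hx'] at hxz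
      rw [← hx', Set.mem_singleton_iff.1 (((f.fiberι y).isEmbedding.isInducing.specializes_iff.1 hxz).mem_closed hclosed rfl)]
    have h2 : ∀ z, z ⤳ x → b z = b x → z = x := fun z hzx hz => by
      refine hopen z ?_ (hzx.mem_open hNo hxN)
      rw [← hfx, ← hbg]
      exact congrArg g hz
    exact hxu ⟨p0, H26.GGContract.eq_of_no_specialization_fibre b h1 h2 ((hbu p0).trans (hx : b x = y').symm)⟩
  -- off the point
  let V : f.normalization.Opens := ⟨{y'}ᶜ, hyc.isOpen_compl⟩
  have hoff : IsIso (b ∣_ V) := by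
    have hle : b ⁻¹ᵁ V ≤ U := fun x hx => (hU x).2 fun hxu => hx (hfib.ge hxu)
    haveI : LocallyQuasiFinite (((b ⁻¹ᵁ V).ι ≫ b) ≫ g) := by
      rw [Category.assoc, hbg, ← Scheme.homOfLE_ι X hle, Category.assoc]
      infer_instance
    haveI : LocallyQuasiFinite ((b ⁻¹ᵁ V).ι ≫ b) := LocallyQuasiFinite.of_comp _ g
    haveI : LocallyQuasiFinite ((b ∣_ V) ≫ V.ι) := by rw [morphismRestrict_ι]; infer_instance
    haveI : LocallyQuasiFinite (b ∣_ V) := LocallyQuasiFinite.of_comp _ V.ι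
    haveI : IsFinite (b ∣_ V) := IsFinite.of_isProper_of_locallyQuasiFinite _
    refine isIso_of_isAffineHom (b ∣_ V) fun W => ?_
    haveI := happ (V.ι ''ᵁ W)
    rw [morphismRestrict_app]
    infer_instance
  have hkerE : BlowUp.IsEffCartierIdeal u.ker := hker.symm ▸ heff
  let φ' : (Scheme.Modules.pullback u).obj (ClSub.idealMod u.ker) ≅ Twist.twistProjSpace 1 k 1 :=
    (Scheme.Modules.pullback u).mapIso (eqToIso (congrArg ClSub.idealMod hker)) ≪≫ φ
  obtain ⟨hreg, hdim, -⟩ := point_data b u y' hyc hkerE φ' hfib happ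
  refine ⟨f.normalization, b, g, ⟨inferInstance, inferInstance, y', hyc, ?_, hreg, hdim,
    isBlowUp b u y' hyc hkerE φ' hfib happ hoff⟩, hbg, hgfin, isIso_unitToPush b happ⟩
  refine Set.Subset.antisymm ?_ ?_
  · rintro _ ⟨a, rfl⟩
    obtain ⟨p, hp⟩ : ι a ∈ Set.range u := hrange ▸ ⟨a, rfl⟩
    show b (ι a) = y'
    rw [← hp]
    exact hbu p
  · rintro _ rfl
    exact ⟨e.hom p0, rfl⟩

end Groth.Agent.ExcContr
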