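import Groth.Agent.H26.ArtinTriv.Div
import Groth.Agent.H26.ExcCrit
import Groth.Agent.H26.GGContract.Main
import Groth.Agent.ExcTwist.Main
import Groth.Agent.AmpleThick17.General
import Groth.Agent.S0054
import Groth.Agent.S0051
import Groth.Agent.H23.RedSub
import Groth.Agent.H23.PnChart
import Groth.Agent.AmpleX.RelAffine

/-!
# An exceptional line over a local ring: ampleness of its ideal and vanishing of `H¹`
-/

set_option autoImplicit false
set_option linter.style.haveILetI false
set_option linter.unusedSectionVars false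
set_option backward.isDefEq.respectTransparency false
set_option backward.isDefEq.respectTransparency.types false
set_option maxHeartbeats 1000000

universe u

open CategoryTheory CategoryTheory.Limits AlgebraicGeometry TopologicalSpace IsLocalRing
open Groth.Agent.H23
open scoped Groth.Agent.H23.PicMul

noncomputable section

namespace Groth.Agent.ExcContr

/-- `X` is proper over a noetherian local ring and its closed fibre is supported on an embedded line whose
ideal is that of an effective Cartier divisor, with conormal module `O(1)`. -/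
structure LineFibre {A : CommRingCat.{u}} [IsLocalRing A] {X : Scheme.{u}} (π : X ⟶ Spec A) {k : Type u} [Field k]
    (u : CohB1.ProjSpace 1 k ⟶ X) : Prop where
  eff : BlowUp.IsEffCartierIdeal u.ker
  conormal : Nonempty ((Scheme.Modules.pullback u).obj (ClSub.idealMod u.ker) ≅ Twist.twistProjSpace 1 k 1)
  fib : π ⁻¹' {closedPoint A} = Set.range u

theorem isAmple_twist_one (k : Type u) [Field k] : CohB1.IsAmple (Twist.twistProjSpace 1 k 1) := by
  classical
  let T := Finset.image (fun j : Fin (1 + 1) => (MvPolynomial.X j : MvPolynomial (Fin (1 + 1)) k)) Finset.univ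
  refine AmpleX.isAmple_twist_one (CohB1.polyGrading 1 k) T (fun f hf => ?_) (top_le_iff.1 fun y _ => ?_)
  · obtain ⟨j, -, rfl⟩ := Finset.mem_image.1 hf
    exact ProjPt.X_mem j
  · obtain ⟨j, hj⟩ := ProjUPX.cov_X y
    exact Opens.mem_iSup.2 ⟨⟨_, Finset.mem_image.2 ⟨j, Finset.mem_univ _, rfl⟩⟩, hj⟩

theorem eq_top_of_closedPoint_mem {A : CommRingCat.{u}} [IsLocalRing A] {V : (Spec A).Opens}
    (hV : closedPoint A ∈ V) : V = ⊤ :=
  top_le_iff.1 fun p _ =>
    Specializes.mem_open ((PrimeSpectrum.le_iff_specializes p (closedPoint A)).1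
      (le_maximalIdeal p.2.ne_top)) V.2 hV

namespace LineFibre

variable {A : CommRingCat.{u}} [IsLocalRing A] [IsNoetherianRing A] {X : Scheme.{u}} {π : X ⟶ Spec A} [IsProper π]
  {k : Type u} [Field k] {u : CohB1.ProjSpace 1 k ⟶ X} [IsClosedImmersion u] (h : LineFibre π u)
include h

theorem isInvertible : PicF.IsInvertible (ClSub.idealMod u.ker) := H26.IdealCl.isInvertible_idealMod h.eff

/-- Every point of `X` specializes into the line. -/
theorem exists_specializes (x : X) : ∃ p, x ⤳ u p := by
  have hc : closedPoint A ∈ π '' closure {x} := by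
    have hcl : IsClosed (π '' closure {x}) := π.isClosedMap _ isClosed_closure
    exact ((PrimeSpectrum.le_iff_specializes _ _).1 (le_maximalIdeal (π x).2.ne_top)).mem_closed hcl
      ⟨x, subset_closure rfl, rfl⟩
  obtain ⟨z, hz, hzc⟩ := hc
  obtain ⟨p, rfl⟩ : z ∈ Set.range u := h.fib ▸ (hzc : z ∈ π ⁻¹' {closedPoint A})
  exact ⟨p, specializes_iff_mem_closure.2 hz⟩

/-- An open set containing the line is everything. -/
theorem eq_top {V : X.Opens} (hV : ∀ p, u p ∈ V) : V = ⊤ :=
  top_le_iff.1 fun x _ => let ⟨p, hp⟩ := h.exists_specializes x; hp.mem_open V.2 (hV p)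

theorem isAmple : CohB1.IsAmple (ClSub.idealMod u.ker) := by
  haveI : IsIntegral (CohB1.ProjSpace 1 k) := H23.PnChart.isIntegral_projSpace 1 k
  haveI : IsNoetherian (Spec A) := {}
  let y : (Spec A : Scheme.{u}) := closedPoint A
  have hr : Set.range (π.fiberι y) = π ⁻¹' {y} := π.range_fiberι y
  haveI : IsClosedImmersion ((Spec A : Scheme.{u}).fromSpecResidueField y) :=
    IsClosedImmersion.of_isPreimmersion _ (by
      rw [Scheme.range_fromSpecResidueField]; exact IsLocalRing.isClosed_singleton_closedPoint A)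
  haveI : IsClosedImmersion (π.fiberι y) := MorphismProperty.pullback_fst _ _ inferInstance
  obtain ⟨t, ht⟩ := H23.RedSub.exists_lift_closed u (π.fiberι y) (by rw [hr, h.fib])
  haveI : IsClosedImmersion (t ≫ π.fiberι y) := by rw [ht]; infer_instance
  haveI : IsClosedImmersion t := IsClosedImmersion.of_comp t (π.fiberι y)
  have hsurj : Function.Surjective t := fun z => by
    obtain ⟨p, hp⟩ : π.fiberι y z ∈ Set.range u := h.fib ▸ hr ▸ ⟨z, rfl⟩
    exact ⟨p, (π.fiberι y).isEmbedding.injective (by rw [← Scheme.Hom.comp_apply, ht]; exact hp)⟩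
  have hinv := PicClLib.isInvertible_pullback (π.fiberι y) h.isInvertible
  have hA : CohB1.IsAmple ((Scheme.Modules.pullback (π.fiberι y)).obj (ClSub.idealMod u.ker)) := by
    refine (AmpleThick17.isAmple_pullback_iff t hsurj hinv).1 ?_
    obtain ⟨φ⟩ := h.conormal
    exact AmpleX.isAmple_of_iso ((Scheme.Modules.pullbackComp t (π.fiberι y)).app _ ≪≫
      (Scheme.Modules.pullbackCongr ht).app _ ≪≫ φ).symm (isAmple_twist_one k)
  obtain ⟨V, hyV, hV⟩ := S0054.result π _ h.isInvertible y hA
  obtain rfl := eq_top_of_closedPoint_mem hyV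
  haveI : CompactSpace X := QuasiCompact.compactSpace_of_compactSpace π
  have hW : CohB1.IsAmple ((ClSub.idealMod u.ker).restrict (⊤ : X.Opens).ι) := hV ⊤ le_rfl (isAffineOpen_top _)
  haveI : CompactSpace ((⊤ : X.Opens) : Scheme.{u}) := hW.2.1
  have h2 := AmpleVan.isAmple_pullback_of_isEmbedding X.topIso.inv
    (Scheme.homeoOfIso X.topIso.symm).isEmbedding hW
  exact AmpleX.isAmple_of_iso ((Scheme.Modules.pullback _).mapIso
    ((Scheme.Modules.restrictFunctorIsoPullback _).app _) ≪≫ (Scheme.Modules.pullbackComp _ _).app _ ≪≫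
    (Scheme.Modules.pullbackCongr X.topIso.inv_hom_id).app _ ≪≫ (Scheme.Modules.pullbackId _).app _) h2

/-- The class of the conormal module. -/
theorem pullHom_cl : PicMul.pullHom u (PicF.cl (ClSub.idealMod u.ker)) = ExcTwist.tw k 1 :=
  PicMul.cl_eq_iff.2 h.conormal

/-- One step of the descending induction. -/
theorem step {P : X.Modules} (hP : PicF.IsInvertible P) {m : ℤ} (hm : -1 ≤ m)
    (hpull : PicMul.pullHom u (PicF.cl P) = ExcTwist.tw k m) {N : X.Modules}
    (hN : PicF.cl N = PicF.cl P * PicF.cl (ClSub.idealMod u.ker)) (h1 : Subsingleton (Coh.HH X N 1)) :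
    Subsingleton (Coh.HH X P 1) := by
  obtain ⟨e1⟩ := PicMul.cl_eq_iff.1 (hN.trans (PicMul.cl_tensor P (ClSub.idealMod u.ker)).symm)
  obtain ⟨f, M, g, w, ⟨eM⟩, hS⟩ := H26.ArtinTriv.exists_seq u hP e1
  obtain ⟨χ⟩ := PicMul.cl_eq_iff.1
    (hpull : PicF.cl ((Scheme.Modules.pullback u).obj P) = PicF.cl (Twist.twistProjSpace 1 k m))
  have hM : Subsingleton (Coh.HH (CohB1.ProjSpace 1 k) M 1) :=
    QCoh.subsingleton_HH_of_iso (eM ≪≫ χ).symm 1 (S0844.result k 1 m 1 (by omega) (by omega))
  have hQ : Coh.IsQCoh M := ProjUPX.isQCoh_of_isInvertible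
    (PicMul.isInvertible_of_iso eM.symm (PicClLib.isInvertible_pullback _ hP))
  obtain ⟨a⟩ := QCoh.HH_push_of_isAffineHom u hQ 1
  exact QCoh.subsingleton_HH_X₂ hS 1 h1 (show Subsingleton (Coh.HH X ((Coh.push u).obj M) 1) from
    @Equiv.subsingleton _ _ a.symm.toEquiv hM)

/-- `H¹` of the powers of the ideal vanishes. -/
theorem subsingleton_pow (j : ℕ) {P : X.Modules} (hP : PicF.IsInvertible P)
    (hcl : PicF.cl P = PicF.cl (ClSub.idealMod u.ker) ^ j) : Subsingleton (Coh.HH X P 1) := by
  haveI : IsLocallyNoetherian X := LocallyOfFiniteType.isLocallyNoetherian π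
  obtain ⟨n₀, hn⟩ := (S0051.result A X π _ h.isInvertible).1 h.isAmple _ QCoh.isCoh_structureModule'
  suffices H : ∀ (d j : ℕ), n₀ ≤ j + d → ∀ {P : X.Modules}, PicF.IsInvertible P →
      PicF.cl P = PicF.cl (ClSub.idealMod u.ker) ^ j → Subsingleton (Coh.HH X P 1) from
    H n₀ j (Nat.le_add_left _ _) hP hcl
  intro d
  induction d with
  | zero =>
    intro j hj P _ hcl
    obtain ⟨e⟩ : Nonempty (CohB1.tensorMod (Coh.structureModule X)
        (CohB1.tensorPow (ClSub.idealMod u.ker) j) ≅ P) := PicMul.cl_eq_iff.1 (by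
      rw [PicMul.cl_tensor, PicMul.cl_tensorPow, ← PicMul.one_def, one_mul, hcl])
    exact QCoh.subsingleton_HH_of_iso e 1 (hn j (by omega) 1 one_pos)
  | succ d ih =>
    intro j hj P hP hcl
    refine h.step hP (m := j) (by omega) ?_ (N := CohB1.tensorMod P (ClSub.idealMod u.ker))
      (PicMul.cl_tensor _ _) (ih (j + 1) (by omega) (PicMul.isInvertible_tensor hP h.isInvertible) ?_)
    · rw [hcl, map_pow, h.pullHom_cl, ExcTwist.tw_pow_one]
    · rw [PicMul.cl_tensor, hcl, pow_succ]

/-- `H¹` of an inverse of the ideal vanishes. -/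
theorem subsingleton_inverse {P : X.Modules} (hP : PicF.IsInvertible P)
    (hcl : PicF.cl P * PicF.cl (ClSub.idealMod u.ker) = 1) : Subsingleton (Coh.HH X P 1) := by
  refine h.step hP (m := -1) le_rfl ?_ (N := Coh.structureModule X) ?_
    (h.subsingleton_pow 0 InvX.isInvertible_structureModule (by rw [pow_zero, PicMul.one_def]))
  · have h1 := congrArg (PicMul.pullHom u) hcl
    rw [map_mul, h.pullHom_cl, map_one] at h1
    calc PicMul.pullHom u (PicF.cl P)
        = PicMul.pullHom u (PicF.cl P) * (ExcTwist.tw k 1 * ExcTwist.tw k (-1)) := by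
          rw [ExcTwist.tw_add, add_neg_cancel, ExcTwist.tw_zero, mul_one]
      _ = _ := by rw [← mul_assoc, h1, one_mul]
  · rw [hcl, PicMul.one_def]

end LineFibre

end Groth.Agent.ExcContr
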